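import Mathlib

set_option autoImplicit false

namespace Cfsg.Agent.H16

/-- Independent families in a finite dimensional space are related by a linear automorphism. -/
theorem exists_equiv_of_independent {K V ι : Type*} [Field K] [AddCommGroup V] [Module K V]
    [FiniteDimensional K V] {v v' : ι → V} (hv : LinearIndependent K v)
    (hv' : LinearIndependent K v') : ∃ g : V ≃ₗ[K] V, ∀ i, g (v i) = v' i := by
  classical
  let f := hv.linearCombinationEquiv.symm ≪≫ₗ hv'.linearCombinationEquiv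
  obtain ⟨g, hg⟩ := Submodule.exists_linearEquiv_restrict_eq f
  refine ⟨g, fun i => ?_⟩
  have h1 : hv.linearCombinationEquiv (Finsupp.single i 1) = ⟨v i, Submodule.subset_span ⟨i, rfl⟩⟩ := by
    apply Subtype.ext
    simp
  have h2 : hv'.linearCombinationEquiv (Finsupp.single i 1) = ⟨v' i, Submodule.subset_span ⟨i, rfl⟩⟩ := by
    apply Subtype.ext
    simp
  have h3 := hg ⟨v i, Submodule.subset_span ⟨i, rfl⟩⟩
  have h4 : f ⟨v i, Submodule.subset_span ⟨i, rfl⟩⟩ = ⟨v' i, Submodule.subset_span ⟨i, rfl⟩⟩ := by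
    rw [← h1, ← h2]
    simp [f]
  rw [h4] at h3
  exact h3.symm

/-- A permutation that is affine on each triple of points is affine, for odd `p`. -/
theorem affine_of_triples {p : ℕ} [Fact p.Prime] (hp : p ≠ 2) {V : Type*} [AddCommGroup V]
    [Module (ZMod p) V] (σ : Equiv.Perm V)
    (h : ∀ t : Fin 3 → V, ∃ (A : V ≃ₗ[ZMod p] V) (b : V), ∀ i, σ (t i) = A (t i) + b) :
    ∃ (A : V ≃ₗ[ZMod p] V) (b : V), ∀ x, σ x = A x + b := by
  have two : (2 : ZMod p) ≠ 0 := by
    intro h2
    have h3 : ((2 : ℕ) : ZMod p) = 0 := by exact_mod_cast h2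
    rw [ZMod.natCast_eq_zero_iff] at h3
    exact hp ((Nat.prime_dvd_prime_iff_eq (Fact.out : p.Prime) Nat.prime_two).1 h3)
  set h2 : ZMod p := 2⁻¹ with hh2
  have h22 : (2 : ZMod p) * h2 = 1 := mul_inv_cancel₀ two
  have mid : ∀ x y : V, σ (h2 • (x + y)) = h2 • (σ x + σ y) := by
    intro x y
    obtain ⟨A, b, hAb⟩ := h ![x, y, h2 • (x + y)]
    have e0 := hAb 0
    have e1 := hAb 1
    have e2 := hAb 2
    simp only [Matrix.cons_val_zero, Matrix.cons_val_one, Matrix.cons_val] at e0 e1 e2
    rw [e2, e0, e1, map_smul, map_add]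
    have : b = h2 • (b + b) := by
      rw [← two_smul (ZMod p) b, smul_smul, mul_comm, h22, one_smul]
    nth_rewrite 1 [this]
    rw [← smul_add]
    congr 1
    abel
  have dbl : ∀ m : V, σ ((2 : ZMod p) • m) = (2 : ZMod p) • σ m - σ 0 := by
    intro m
    obtain ⟨A, b, hAb⟩ := h ![0, m, (2 : ZMod p) • m]
    have e0 := hAb 0
    have e1 := hAb 1
    have e2 := hAb 2
    simp only [Matrix.cons_val_zero, Matrix.cons_val_one, Matrix.cons_val] at e0 e1 e2
    rw [e2, e0, e1, map_smul, map_zero, zero_add, smul_add, two_smul (ZMod p) b]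
    abel
  have add : ∀ x y : V, σ (x + y) = σ x + σ y - σ 0 := by
    intro x y
    have h3 : x + y = (2 : ZMod p) • (h2 • (x + y)) := by
      rw [smul_smul, h22, one_smul]
    rw [h3, dbl, mid, smul_smul, h22, one_smul]
  let τ : V →+ V := AddMonoidHom.mk' (fun x => σ x - σ 0) (by
    intro x y
    rw [add]
    abel)
  let L : V →ₗ[ZMod p] V := τ.toZModLinearMap p
  have hL : ∀ x, L x = σ x - σ 0 := fun x => rfl
  have hbij : Function.Bijective L := by
    constructor
    · intro x y hxy
      rw [hL, hL] at hxy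
      exact σ.injective (sub_left_inj.mp hxy)
    · intro y
      refine ⟨σ.symm (y + σ 0), ?_⟩
      rw [hL, Equiv.apply_symm_apply]
      abel
  refine ⟨LinearEquiv.ofBijective L hbij, σ 0, fun x => ?_⟩
  rw [LinearEquiv.ofBijective_apply, hL]
  abel

end Cfsg.Agent.H16
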