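import Cfsg.Agent.Lib.H16.TwoTrans2

set_option autoImplicit false
set_option linter.style.haveILetI false

namespace Cfsg.Agent.H16

section CentCore

open scoped Pointwise

variable {T : Type*} [Group T]

/-- Hypotheses on the centralizers of a group. -/
structure CentHyp (T : Type*) [Group T] : Prop where
  pow : ∀ (t : T) (j : ℕ), t ^ j ≠ 1 → ∀ s : T, Commute s (t ^ j) → Commute s t
  nrm : ∀ t : T, t ≠ 1 → ∀ s : T, (∀ u : T, Commute u t → Commute (s * u * s⁻¹) t) → Commute s t

theorem CentHyp.ccp (h : CentHyp T) {a b : T} (hab : Commute a b) (ha : a ≠ 1) (hb : b ≠ 1)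
    (hc : Nat.Coprime (orderOf a) (orderOf b)) {s : T} (hs : Commute s a) : Commute s b := by
  have h1 : (a * b) ^ orderOf b = a ^ orderOf b := by
    rw [hab.mul_pow, pow_orderOf_eq_one, mul_one]
  have h2 : (a * b) ^ orderOf a = b ^ orderOf a := by
    rw [hab.mul_pow, pow_orderOf_eq_one, one_mul]
  have h3 : a ^ orderOf b ≠ 1 := by
    intro h'
    have h5 := orderOf_dvd_of_pow_eq_one h'
    have h6 : orderOf a = 1 := Nat.eq_one_of_dvd_coprimes hc dvd_rfl h5
    exact ha (orderOf_eq_one_iff.1 h6)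
  have h4 : b ^ orderOf a ≠ 1 := by
    intro h'
    have h5 := orderOf_dvd_of_pow_eq_one h'
    have h6 : orderOf b = 1 := Nat.eq_one_of_dvd_coprimes hc h5 dvd_rfl
    exact hb (orderOf_eq_one_iff.1 h6)
  have e1 : Commute s (a * b) :=
    h.pow (a * b) (orderOf b) (by rw [h1]; exact h3) s (by rw [h1]; exact hs.pow_right _)
  exact h.pow b (orderOf a) h4 s (by rw [← h2]; exact e1.pow_right _)

/-- Burnside's transfer theorem in a simple group. -/
theorem burnside_contra [Finite T] [IsSimpleGroup T] (hnc : ¬ ∀ a b : T, a * b = b * a) {p : ℕ}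
    [Fact p.Prime] (Q : Subgroup T) (hQ : IsPGroup p Q) (hind : ¬ p ∣ Q.index) (hne : Q ≠ ⊥)
    (hn : Subgroup.normalizer (Q : Set T) ≤ Subgroup.centralizer (Q : Set T)) : False := by
  let P : Sylow p T := hQ.toSylow hind
  have hPQ : (P : Subgroup T) = Q := rfl
  have : (P : Subgroup T).FiniteIndex := ⟨Subgroup.index_ne_zero_of_finite⟩
  have hP : Subgroup.normalizer ((P : Subgroup T) : Set T) ≤
      Subgroup.centralizer ((P : Subgroup T) : Set T) := hn
  let f := MonoidHom.transferSylow P hP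
  have hc : Subgroup.IsComplement' f.ker (P : Subgroup T) :=
    MonoidHom.ker_transferSylow_isComplement' P hP
  have hcard : Nat.card f.ker * Nat.card Q = Nat.card T := hc.card_mul_card
  rcases IsSimpleGroup.eq_bot_or_eq_top_of_normal f.ker (MonoidHom.normal_ker f) with h | h
  · rw [h, Subgroup.card_bot, one_mul] at hcard
    have hQt : Q = ⊤ := (Subgroup.card_eq_iff_eq_top Q).1 hcard
    apply hnc
    intro a b
    have ha : a ∈ Subgroup.normalizer (Q : Set T) := by
      rw [Subgroup.mem_normalizer_iff]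
      intro x
      rw [hQt]
      simp
    have := Subgroup.mem_centralizer_iff.1 (hn ha) b (by rw [hQt]; trivial)
    exact this.symm
  · rw [h, Subgroup.card_top] at hcard
    have h1 : Nat.card Q = 1 := by
      have h2 : 0 < Nat.card T := Nat.card_pos
      exact Nat.eq_of_mul_eq_mul_left h2 (by rw [hcard, mul_one])
    exact hne (Subgroup.eq_bot_of_card_eq _ h1)

theorem not_dvd_index_of_normalizer_le [Finite T] {p : ℕ} [Fact p.Prime] {Q E : Subgroup T}
    (hQ : IsPGroup p Q) (hQE : Q ≤ E) (hind : ¬ p ∣ Q.relIndex E)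
    (hn : Subgroup.normalizer (Q : Set T) ≤ E) : ¬ p ∣ Q.index := by
  intro hd
  obtain ⟨n, hn'⟩ := IsPGroup.iff_card.1 hQ
  have hp := (Fact.out : p.Prime)
  have h1 : p ^ (n + 1) ∣ Nat.card T := by
    rw [← Subgroup.card_mul_index Q, hn', pow_succ]
    exact mul_dvd_mul_left _ hd
  have h2 := Sylow.prime_pow_dvd_card_normalizer h1 hn'
  have h3 : Nat.card (Subgroup.normalizer (Q : Set T)) ∣ Nat.card E := Subgroup.card_dvd_of_le hn
  have h4 : p ^ (n + 1) ∣ Nat.card E := h2.trans h3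
  rw [← card_mul_relIndex' hQE, hn', pow_succ] at h4
  exact hind (Nat.dvd_of_mul_dvd_mul_left (pow_pos hp.pos n) h4)

theorem mem_centralizer_singleton' {s y : T} :
    s ∈ Subgroup.centralizer ({y} : Set T) ↔ Commute s y := by
  rw [Subgroup.mem_centralizer_singleton_iff]
  exact ⟨fun h => h, fun h => h⟩

theorem orderOf_coprime_of_mem_pgroup {p q : ℕ} (hp : p.Prime) (hq : q.Prime) (hpq : p ≠ q)
    {Q : Subgroup T} (hQ : IsPGroup p Q) {u : T} (hu : u ∈ Q) : Nat.Coprime (orderOf u) q := by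
  obtain ⟨k, hk⟩ := hQ ⟨u, hu⟩
  have h1 : u ^ p ^ k = 1 := congrArg Subtype.val hk
  have h2 : orderOf u ∣ p ^ k := orderOf_dvd_of_pow_eq_one h1
  have h3 : Nat.Coprime (p ^ k) q := Nat.Coprime.pow_left _ ((Nat.coprime_primes hp hq).2 hpq)
  exact Nat.Coprime.coprime_dvd_left h2 h3

theorem CentHyp.no_other_prime [Finite T] [IsSimpleGroup T] (hnc : ¬ ∀ a b : T, a * b = b * a)
    (h : CentHyp T) {p q : ℕ} [Fact p.Prime] [Fact q.Prime] (hpq : p ≠ q) {y w : T}
    (hy : orderOf y = p) (hw : orderOf w = q) (hyw : Commute y w) : False := by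
  have hp := (Fact.out : p.Prime)
  have hq := (Fact.out : q.Prime)
  let E : Subgroup T := Subgroup.centralizer ({y} : Set T)
  have memE : ∀ s, s ∈ E ↔ Commute s y := fun s => mem_centralizer_singleton'
  have hy1 : y ≠ 1 := by
    intro h'
    rw [h', orderOf_one] at hy
    exact hp.ne_one hy.symm
  have hw1 : w ≠ 1 := by
    intro h'
    rw [h', orderOf_one] at hw
    exact hq.ne_one hw.symm
  have hcop : Nat.Coprime (orderOf y) (orderOf w) := by
    rw [hy, hw]
    exact (Nat.coprime_primes hp hq).2 hpq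
  have hEw : ∀ s, Commute s w ↔ Commute s y := fun s =>
    ⟨fun hs => h.ccp hyw.symm hw1 hy1 hcop.symm hs, fun hs => h.ccp hyw hy1 hw1 hcop hs⟩
  obtain ⟨Q₀, hQ₀E, hQ₀p, hQ₀ind⟩ := exists_sylow_le p E
  have hQ₀ne : Q₀ ≠ ⊥ := by
    intro hb
    rw [hb, Subgroup.relIndex_bot_left] at hQ₀ind
    apply hQ₀ind
    rw [← hy]
    exact E.orderOf_dvd_natCard ((memE y).2 (Commute.refl y))
  have key : ∀ u ∈ Q₀, u ≠ 1 → ∀ s, Commute s u ↔ Commute s y := by
    intro u hu hu1 s
    have huE : Commute u y := (memE u).1 (hQ₀E hu)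
    have huw : Commute u w := (hEw u).2 huE
    have hord : Nat.Coprime (orderOf u) (orderOf w) := by
      rw [hw]
      exact orderOf_coprime_of_mem_pgroup hp hq hpq hQ₀p hu
    constructor
    · intro hs
      exact (hEw s).1 (h.ccp huw hu1 hw1 hord hs)
    · intro hs
      exact h.ccp huw.symm hw1 hu1 hord.symm ((hEw s).2 hs)
  have hcen : ∀ u ∈ Q₀, ∀ g ∈ E, Commute g u := by
    intro u hu g hg
    by_cases hu1 : u = 1
    · rw [hu1]
      exact Commute.one_right g
    · exact (key u hu hu1 g).2 ((memE g).1 hg)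
  have hnE : Subgroup.normalizer (Q₀ : Set T) ≤ E := by
    intro g hg
    obtain ⟨u₀, hu₀, hu₀1⟩ := (Subgroup.bot_or_exists_ne_one Q₀).resolve_left hQ₀ne
    have hgu : g * u₀ * g⁻¹ ∈ Q₀ := (Subgroup.mem_normalizer_iff.1 hg u₀).1 hu₀
    have hgu1 : g * u₀ * g⁻¹ ≠ 1 := by
      intro h'
      apply hu₀1
      have : u₀ = g⁻¹ * (g * u₀ * g⁻¹) * g := by group
      rw [this, h']
      group
    rw [memE]
    apply h.nrm y hy1 g
    intro v hv
    have hv' : Commute v u₀ := (key u₀ hu₀ hu₀1 v).2 hv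
    exact (key _ hgu hgu1 _).1 ((Commute.conj_iff g).2 hv')
  have hsyl := not_dvd_index_of_normalizer_le hQ₀p hQ₀E hQ₀ind hnE
  refine burnside_contra hnc Q₀ hQ₀p hsyl hQ₀ne (fun g hg => ?_)
  rw [Subgroup.mem_centralizer_iff]
  intro u hu
  exact (hcen u hu g (hnE hg)).symm.eq

theorem CentHyp.exists_sylow [Finite T] [IsSimpleGroup T] (hnc : ¬ ∀ a b : T, a * b = b * a)
    (h : CentHyp T) {x : T} (hx : x ≠ 1) :
    ∃ p : ℕ, p.Prime ∧ IsPGroup p (Subgroup.centralizer ({x} : Set T)) ∧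
      ¬ p ∣ (Subgroup.centralizer ({x} : Set T)).index := by
  classical
  have hord : orderOf x ≠ 1 := mt orderOf_eq_one_iff.1 hx
  obtain ⟨p, hp, hpd⟩ := Nat.exists_prime_and_dvd hord
  have hpF : Fact p.Prime := ⟨hp⟩
  have hx0 : orderOf x ≠ 0 := (orderOf_pos x).ne'
  let y := x ^ (orderOf x / p)
  have hy : orderOf y = p := orderOf_pow_orderOf_div hx0 hpd
  have hy1 : y ≠ 1 := by
    intro h'
    rw [h', orderOf_one] at hy
    exact hp.ne_one hy.symm
  have hC : ∀ s, Commute s x ↔ Commute s y := fun s =>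
    ⟨fun h' => h'.pow_right _, h.pow x _ hy1 s⟩
  let E : Subgroup T := Subgroup.centralizer ({x} : Set T)
  have memE : ∀ s, s ∈ E ↔ Commute s x := fun s => mem_centralizer_singleton'
  have hpg : IsPGroup p E := by
    apply IsPGroup.of_card (n := (Nat.card E).primeFactorsList.length)
    apply Nat.eq_prime_pow_of_unique_prime_dvd Nat.card_pos.ne'
    intro q hq hqd
    by_contra hne
    have hqF : Fact q.Prime := ⟨hq⟩
    obtain ⟨w, hw⟩ := exists_prime_orderOf_dvd_card' q hqd
    have hw' : orderOf (w : T) = q := by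
      rw [Subgroup.orderOf_coe]
      exact hw
    have hwy : Commute y (w : T) := ((hC _).1 ((memE _).1 w.2)).symm
    exact h.no_other_prime hnc (Ne.symm hne) hy hw' hwy
  refine ⟨p, hp, hpg, not_dvd_index_of_normalizer_le hpg le_rfl ?_ ?_⟩
  · rw [Subgroup.relIndex_self]
    exact hp.one_lt.ne' ∘ Nat.dvd_one.1
  · intro g hg
    rw [memE]
    apply h.nrm x hx g
    intro u hu
    exact (memE _).1 ((Subgroup.mem_normalizer_iff.1 hg u).1 ((memE u).2 hu))

/-- All Sylow subgroups are non-abelian. -/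
theorem CentHyp.sylow_nonab [Finite T] [IsSimpleGroup T] (hnc : ¬ ∀ a b : T, a * b = b * a)
    (h : CentHyp T) {p : ℕ} [hpF : Fact p.Prime] (Q : Subgroup T) (hQ : IsPGroup p Q)
    (hind : ¬ p ∣ Q.index) (hne : Q ≠ ⊥) : ¬ ∀ a ∈ Q, ∀ b ∈ Q, a * b = b * a := by
  intro hab
  have hp := hpF.out
  obtain ⟨x, hxQ, hx1⟩ := (Subgroup.bot_or_exists_ne_one Q).resolve_left hne
  obtain ⟨p', hp', hpg, hind'⟩ := h.exists_sylow hnc hx1
  let E : Subgroup T := Subgroup.centralizer ({x} : Set T)
  have memE : ∀ s, s ∈ E ↔ Commute s x := fun s => mem_centralizer_singleton'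
  have hxE : x ∈ E := (memE x).2 (Commute.refl x)
  have hpp : p' = p := by
    by_contra hne'
    have h1 := orderOf_coprime_of_mem_pgroup hp hp' (Ne.symm hne') hQ hxQ
    obtain ⟨k, hk⟩ := hpg ⟨x, hxE⟩
    have h2 : x ^ p' ^ k = 1 := congrArg Subtype.val hk
    have h3 : orderOf x ∣ p' ^ k := orderOf_dvd_of_pow_eq_one h2
    have h4 : Nat.Coprime (orderOf x) (p' ^ k) := Nat.Coprime.pow_right _ h1
    have h5 := Nat.eq_one_of_dvd_coprimes h4 dvd_rfl h3
    exact hx1 (orderOf_eq_one_iff.1 h5)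
  subst hpp
  have hQE : Q ≤ E := fun a ha => (memE a).2 (hab a ha x hxQ)
  have hQeq : Q = E := by
    apply Subgroup.eq_of_le_of_card_ge hQE
    obtain ⟨a, ha⟩ := IsPGroup.iff_card.1 hQ
    obtain ⟨b, hb⟩ := IsPGroup.iff_card.1 hpg
    have h1 := Subgroup.card_mul_index Q
    have h2 := Subgroup.card_mul_index E
    rw [ha] at h1
    rw [hb] at h2
    have hfac1 : (Nat.card T).factorization p' = a := by
      rw [← h1, Nat.factorization_mul (pow_pos hp.pos a).ne' (by
        intro h0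
        rw [h0] at hind
        exact hind (dvd_zero _)), hp.factorization_pow]
      simp [Nat.factorization_eq_zero_of_not_dvd hind]
    have hfac2 : (Nat.card T).factorization p' = b := by
      have hind'' : ¬ p' ∣ E.index := hind'
      rw [← h2, Nat.factorization_mul (pow_pos hp.pos b).ne' (by
        intro h0
        rw [h0] at hind''
        exact hind'' (dvd_zero _)), hp.factorization_pow]
      simp [Nat.factorization_eq_zero_of_not_dvd hind'']
    rw [ha, hb, ← hfac1, ← hfac2]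
  refine burnside_contra hnc Q hQ hind hne (fun g hg => ?_)
  rw [Subgroup.mem_centralizer_iff]
  intro u hu
  have hgE : g ∈ E := by
    rw [memE]
    apply h.nrm x hx1 g
    intro v hv
    have hv' : v ∈ Q := by rw [hQeq]; exact (memE v).2 hv
    have := (Subgroup.mem_normalizer_iff.1 hg v).1 hv'
    rw [hQeq] at this
    exact (memE _).1 this
  rw [← hQeq] at hgE
  exact hab u hu g hgE

/-- center bound in a non-abelian `p`-group -/
theorem center_card_mul_sq_le {P : Type*} [Group P] [Finite P] {p : ℕ} [hpF : Fact p.Prime]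
    (hP : IsPGroup p P) (hnc : ¬ ∀ a b : P, a * b = b * a) :
    Nat.card (Subgroup.center P) * p ^ 2 ≤ Nat.card P ∧ 2 * p ^ 2 ≤ Nat.card P := by
  have hp := hpF.out
  obtain ⟨n, hn⟩ := IsPGroup.iff_card.1 hP
  have h1 := Subgroup.card_mul_index (Subgroup.center P)
  have hnt : Nontrivial P := by
    by_contra hcon
    rw [not_nontrivial_iff_subsingleton] at hcon
    exact hnc (fun a b => Subsingleton.elim _ _)
  have hz : Nontrivial (Subgroup.center P) := hP.center_nontrivial
  have hz2 : 2 ≤ Nat.card (Subgroup.center P) := Finite.one_lt_card_iff_nontrivial.2 hz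
  have hd : (Subgroup.center P).index ∣ p ^ n := by
    rw [← hn]
    exact Subgroup.index_dvd_card _
  obtain ⟨k, -, hk⟩ := (Nat.dvd_prime_pow hp).1 hd
  have hk2 : 2 ≤ k := by
    by_contra hlt
    have hk' : k = 0 ∨ k = 1 := by omega
    rcases hk' with rfl | rfl
    · rw [pow_zero] at hk
      have htop : Subgroup.center P = ⊤ := Subgroup.index_eq_one.1 hk
      apply hnc
      intro a b
      have : a ∈ Subgroup.center P := by rw [htop]; trivial
      exact (Subgroup.mem_center_iff.1 this b).symm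
    · rw [pow_one] at hk
      have hcy : IsCyclic (P ⧸ Subgroup.center P) := by
        have hFact : Fact (Nat.card (P ⧸ Subgroup.center P)).Prime := by
          have : Nat.card (P ⧸ Subgroup.center P) = p := hk
          rw [this]
          exact hpF
        exact isCyclic_of_prime_card rfl
      apply hnc
      have := (QuotientGroup.mk' (Subgroup.center P)).isMulCommutative_of_isCyclic_of_ker_le_center (by simp)
      exact this.is_comm.comm
  have hsq : p ^ 2 ∣ (Subgroup.center P).index := by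
    rw [hk]
    exact pow_dvd_pow p hk2
  have hle : p ^ 2 ≤ (Subgroup.center P).index :=
    Nat.le_of_dvd (Nat.pos_of_ne_zero Subgroup.index_ne_zero_of_finite) hsq
  constructor
  · calc Nat.card (Subgroup.center P) * p ^ 2 ≤ Nat.card (Subgroup.center P) * (Subgroup.center P).index :=
          Nat.mul_le_mul_left _ hle
      _ = Nat.card P := h1
  · calc 2 * p ^ 2 ≤ Nat.card (Subgroup.center P) * (Subgroup.center P).index := Nat.mul_le_mul hz2 hle
      _ = Nat.card P := h1

theorem sum_Icc_inv_sq (m : ℕ) (hm : 2 ≤ m) :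
    ∑ k ∈ Finset.Icc 2 m, (1 : ℚ) / (k : ℚ) ^ 2 ≤ 3 / 4 - 1 / (m : ℚ) := by
  induction m, hm using Nat.le_induction with
  | base => norm_num
  | succ m hm ih =>
    rw [Finset.sum_Icc_succ_top (by omega)]
    have hm0 : (0 : ℚ) < (m : ℚ) := by exact_mod_cast (by omega : 0 < m)
    have hm1 : (m + 1 : ℕ) = (m : ℚ) + 1 := by push_cast; ring
    rw [hm1]
    have key : (1 : ℚ) / ((m : ℚ) + 1) ^ 2 ≤ 1 / (m : ℚ) - 1 / ((m : ℚ) + 1) := by
      rw [div_sub_div _ _ hm0.ne' (by positivity), div_le_div_iff₀ (by positivity) (by positivity)]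
      nlinarith
    linarith

theorem sum_inv_sq_le (S : Finset ℕ) (hS : ∀ k ∈ S, 2 ≤ k) :
    ∑ k ∈ S, (1 : ℚ) / (k : ℚ) ^ 2 ≤ 3 / 4 := by
  let m := S.sup id + 2
  have hsub : S ⊆ Finset.Icc 2 m := by
    intro k hk
    rw [Finset.mem_Icc]
    refine ⟨hS k hk, ?_⟩
    have : k ≤ S.sup id := Finset.le_sup (f := id) hk
    omega
  have h1 : ∑ k ∈ S, (1 : ℚ) / (k : ℚ) ^ 2 ≤ ∑ k ∈ Finset.Icc 2 m, (1 : ℚ) / (k : ℚ) ^ 2 :=
    Finset.sum_le_sum_of_subset_of_nonneg hsub (fun _ _ _ => by positivity)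
  have h2 := sum_Icc_inv_sq m (by omega)
  have h3 : (0 : ℚ) ≤ 1 / (m : ℚ) := by positivity
  linarith

theorem CentHyp.exists_set [Finite T] [IsSimpleGroup T] (hnc : ¬ ∀ a b : T, a * b = b * a)
    (h : CentHyp T) (p : ℕ) [hpF : Fact p.Prime] (hpd : p ∣ Nat.card T) :
    ∃ A : Finset T, (∀ x : T, x ≠ 1 → IsPGroup p (Subgroup.centralizer ({x} : Set T)) →
        ¬ p ∣ (Subgroup.centralizer ({x} : Set T)).index → x ∈ A) ∧
      A.card * p ^ 2 ≤ Nat.card T ∧ 2 * p ^ 2 ≤ Nat.card T := by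
  classical
  have hp := hpF.out
  obtain ⟨Q⟩ : Nonempty (Sylow p T) := inferInstance
  let Q' : Subgroup T := Q
  have hne : Q' ≠ ⊥ := by
    intro hb
    have h1 := Q.not_dvd_index
    have h2 : (Q : Subgroup T).index = Nat.card T := by
      change Q'.index = _
      rw [hb, Subgroup.index_bot]
    rw [h2] at h1
    exact h1 hpd
  have hnab := h.sylow_nonab hnc Q' Q.isPGroup' Q.not_dvd_index hne
  have hnab' : ¬ ∀ a b : Q', a * b = b * a := by
    intro hall
    apply hnab
    intro a ha b hb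
    exact congrArg Subtype.val (hall ⟨a, ha⟩ ⟨b, hb⟩)
  obtain ⟨hc1, hc2⟩ := center_card_mul_sq_le (P := Q') Q.isPGroup' hnab'
  let Z := Subgroup.center Q'
  let f : (T ⧸ Q') × Z → T := fun c => c.1.out * (c.2.1 : T) * c.1.out⁻¹
  haveI : Fintype ((T ⧸ Q') × Z) := Fintype.ofFinite _
  let A : Finset T := Finset.univ.image f
  have hcard : A.card ≤ Q'.index * Nat.card Z := by
    calc A.card ≤ Finset.univ.card := Finset.card_image_le
      _ = Nat.card ((T ⧸ Q') × Z) := by rw [Finset.card_univ, Nat.card_eq_fintype_card]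
      _ = Q'.index * Nat.card Z := by rw [Nat.card_prod]; rfl
  refine ⟨A, ?_, ?_, ?_⟩
  · intro x hx hpg hind
    let S : Sylow p T := hpg.toSylow hind
    have hS : ∀ s, s ∈ (S : Subgroup T) ↔ Commute s x := fun s => mem_centralizer_singleton'
    obtain ⟨g, hg⟩ := MulAction.exists_smul_eq T Q S
    have hgS : (S : Subgroup T) = MulAut.conj g • (Q : Subgroup T) := by
      rw [← hg]
      rfl
    have hxS : x ∈ (S : Subgroup T) := (hS x).2 (Commute.refl x)
    have hy : g⁻¹ * x * g ∈ Q' := by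
      rw [hgS, Subgroup.mem_pointwise_smul_iff_inv_smul_mem] at hxS
      simpa using hxS
    set y := g⁻¹ * x * g with hydef
    have hxy : x = g * y * g⁻¹ := by rw [hydef]; group
    have hyc : ∀ q ∈ Q', Commute q y := by
      intro q hq
      have h1 : g * q * g⁻¹ ∈ (S : Subgroup T) := by
        rw [hgS]
        have := Subgroup.smul_mem_pointwise_smul q (MulAut.conj g) (Q : Subgroup T) hq
        simpa using this
      rw [hS, hxy] at h1
      exact (Commute.conj_iff g).1 h1
    have hyZ : (⟨y, hy⟩ : Q') ∈ Z := by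
      rw [Subgroup.mem_center_iff]
      intro q
      apply Subtype.ext
      exact hyc q q.2
    obtain ⟨r, hr⟩ := QuotientGroup.mk_out_eq_mul Q' g
    rw [Finset.mem_image]
    refine ⟨((g : T ⧸ Q'), ⟨⟨y, hy⟩, hyZ⟩), Finset.mem_univ _, ?_⟩
    change ((g : T ⧸ Q')).out * y * ((g : T ⧸ Q')).out⁻¹ = x
    rw [hr]
    have h2 : (r : T) * y = y * r := hyc r r.2
    calc g * (r : T) * y * (g * (r : T))⁻¹ = g * ((r : T) * y) * (r : T)⁻¹ * g⁻¹ := by group
      _ = g * (y * r) * (r : T)⁻¹ * g⁻¹ := by rw [h2]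
      _ = g * y * g⁻¹ := by group
      _ = x := hxy.symm
  · have hQcard : Q'.index * Nat.card Q' = Nat.card T := Subgroup.index_mul_card Q'
    calc A.card * p ^ 2 ≤ (Q'.index * Nat.card Z) * p ^ 2 := Nat.mul_le_mul_right _ hcard
      _ = Q'.index * (Nat.card Z * p ^ 2) := by ring
      _ ≤ Q'.index * Nat.card Q' := Nat.mul_le_mul_left _ hc1
      _ = Nat.card T := hQcard
  · exact hc2.trans (Subgroup.card_le_card_group Q')

/-- **Core**: no finite non-abelian simple group has this centralizer structure. -/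
theorem CentHyp.false [Finite T] [IsSimpleGroup T] (hnc : ¬ ∀ a b : T, a * b = b * a)
    (h : CentHyp T) : False := by
  classical
  haveI := Fintype.ofFinite T
  have hchoice : ∀ p : ℕ, ∃ A : Finset T, p.Prime → p ∣ Nat.card T →
      (∀ x : T, x ≠ 1 → IsPGroup p (Subgroup.centralizer ({x} : Set T)) →
        ¬ p ∣ (Subgroup.centralizer ({x} : Set T)).index → x ∈ A) ∧
      A.card * p ^ 2 ≤ Nat.card T ∧ 2 * p ^ 2 ≤ Nat.card T := by
    intro p
    by_cases hp : p.Prime ∧ p ∣ Nat.card T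
    · have hpF : Fact p.Prime := ⟨hp.1⟩
      obtain ⟨A, hA⟩ := h.exists_set hnc p hp.2
      exact ⟨A, fun _ _ => hA⟩
    · exact ⟨∅, fun h1 h2 => absurd ⟨h1, h2⟩ hp⟩
  choose A hA using hchoice
  let P := (Nat.card T).primeFactors
  have hT0 : Nat.card T ≠ 0 := Nat.card_pos.ne'
  have hcover : (Finset.univ.erase (1 : T)) ⊆ P.biUnion A := by
    intro x hx
    have hx1 : x ≠ 1 := (Finset.mem_erase.1 hx).1
    obtain ⟨p, hp, hpg, hind⟩ := h.exists_sylow hnc hx1
    have hxE : x ∈ Subgroup.centralizer ({x} : Set T) := mem_centralizer_singleton'.2 (Commute.refl x)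
    have hpd : p ∣ Nat.card T := by
      obtain ⟨k, hk⟩ := hpg ⟨x, hxE⟩
      have h2 : x ^ p ^ k = 1 := congrArg Subtype.val hk
      obtain ⟨j, -, hj⟩ := (Nat.dvd_prime_pow hp).1 (orderOf_dvd_of_pow_eq_one h2)
      have hj0 : j ≠ 0 := by
        rintro rfl
        rw [pow_zero] at hj
        exact hx1 (orderOf_eq_one_iff.1 hj)
      have h3 : p ∣ orderOf x := by
        rw [hj]
        exact dvd_pow_self p hj0
      exact h3.trans (orderOf_dvd_natCard x)
    rw [Finset.mem_biUnion]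
    exact ⟨p, Nat.mem_primeFactors.2 ⟨hp, hpd, hT0⟩, (hA p hp hpd).1 x hx1 hpg hind⟩
  have hcard1 : Nat.card T - 1 ≤ ∑ p ∈ P, (A p).card := by
    have h1 := Finset.card_le_card hcover
    have h2 := Finset.card_biUnion_le (s := P) (t := A)
    rw [Finset.card_erase_of_mem (Finset.mem_univ _), Finset.card_univ,
      ← Nat.card_eq_fintype_card] at h1
    exact h1.trans h2
  have hQ : (Nat.card T : ℚ) - 1 ≤ (Nat.card T : ℚ) * (3 / 4) := by
    have h1 : (Nat.card T : ℚ) - 1 ≤ ((Nat.card T - 1 : ℕ) : ℚ) := by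
      have h3 : 1 ≤ Nat.card T := Nat.card_pos
      push_cast [h3]
      exact le_rfl
    have h2 : ((Nat.card T - 1 : ℕ) : ℚ) ≤ ((∑ p ∈ P, (A p).card : ℕ) : ℚ) := by
      exact_mod_cast hcard1
    have h3 : ((∑ p ∈ P, (A p).card : ℕ) : ℚ) ≤ ∑ p ∈ P, (Nat.card T : ℚ) * ((1 : ℚ) / (p : ℚ) ^ 2) := by
      push_cast
      apply Finset.sum_le_sum
      intro p hp
      have hp' := Nat.mem_primeFactors.1 hp
      have hle := (hA p hp'.1 hp'.2.1).2.1
      have hp0 : (0 : ℚ) < (p : ℚ) ^ 2 := by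
        have : (0 : ℚ) < (p : ℚ) := by exact_mod_cast hp'.1.pos
        positivity
      rw [mul_one_div, le_div_iff₀ hp0]
      exact_mod_cast hle
    have h4 : ∑ p ∈ P, (Nat.card T : ℚ) * ((1 : ℚ) / (p : ℚ) ^ 2) ≤ (Nat.card T : ℚ) * (3 / 4) := by
      rw [← Finset.mul_sum]
      apply mul_le_mul_of_nonneg_left _ (by positivity)
      apply sum_inv_sq_le
      intro k hk
      exact (Nat.mem_primeFactors.1 hk).1.two_le
    linarith
  have hnt : Nat.card T ≠ 1 := by
    intro h1
    obtain ⟨a, b, hab⟩ := (IsSimpleGroup.toNontrivial : Nontrivial T).exists_pair_ne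
    have hs := (Nat.card_eq_one_iff_unique.1 h1).1
    exact hab (Subsingleton.elim a b)
  obtain ⟨p, hp, hpd⟩ := Nat.exists_prime_and_dvd hnt
  have h8 := (hA p hp hpd).2.2
  have h9 : 2 ^ 2 ≤ p ^ 2 := Nat.pow_le_pow_left hp.two_le 2
  have h10 : 8 ≤ Nat.card T := by omega
  have h11 : (8 : ℚ) ≤ (Nat.card T : ℚ) := by exact_mod_cast h10
  linarith

end CentCore

end Cfsg.Agent.H16
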