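import Mathlib
import Cfsg.Prelude.Def_SporCoxeter
import Cfsg.Agent.Lib.H16.Enum

/-!
Verified coset enumeration with a subgroup: a proof DAG found by Felsch-style enumeration, replayed
in the kernel.  Names stand for right cosets `H * rep y`; a fact `(x, a, y)` says
`H * rep x * ℓ a = H * rep y`, where the letter `k` stands for the identity.

The checkers are written for the kernel's evaluator: explicit recursors, `Nat` primitives, raw literals.
-/

set_option autoImplicit false

namespace Cfsg.Agent.H16.CosetEnum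

open Cfsg.Agent.H16.Enum (ev walk ev_append)

/-! ### Computational part -/

/-- A search tree of numbers, for table lookups. -/
inductive NT
  | leaf (n : ℕ)
  | node (m : ℕ) (l r : NT)

/-- A search tree of words. -/
inductive WT
  | leaf (w : List ℕ)
  | node (m : ℕ) (l r : WT)

noncomputable section

def NT.get (t : NT) : ℕ → ℕ :=
  NT.rec (motive := fun _ => ℕ → ℕ) (fun n _ => n)
    (fun m _ _ gl gr i => Bool.rec (gr i) (gl i) (Nat.ble i m)) t

def WT.get (t : WT) : ℕ → List ℕ :=
  WT.rec (motive := fun _ => ℕ → List ℕ) (fun w _ => w)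
    (fun m _ _ gl gr i => Bool.rec (gr i) (gl i) (Nat.ble i m)) t

def WT.words : WT → List (List ℕ)
  | .leaf w => [w]
  | .node _ l r => l.words ++ r.words

theorem WT.get_mem (t : WT) (i : ℕ) : t.get i ∈ t.words := by
  induction t with
  | leaf w => simp [WT.get, WT.words]
  | node m l r ihl ihr =>
    have e : WT.get (.node m l r) i = Bool.rec (r.get i) (l.get i) (Nat.ble i m) := rfl
    rw [e]
    simp only [WT.words, List.mem_append]
    cases Nat.ble i m with
    | true => exact Or.inl ihl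
    | false => exact Or.inr ihr

/-- Force a number to a literal before the lookup of a word. -/
def frc (w : ℕ → List ℕ) (r : ℕ) (G : List ℕ → Bool) : Bool :=
  Nat.rec (G (w 0)) (fun p _ => G (w (Nat.succ p))) r

theorem frc_eq (w : ℕ → List ℕ) (r : ℕ) (G : List ℕ → Bool) : frc w r G = G (w r) := by
  cases r <;> rfl

/-- The last step of a reference. -/
def refFin (k x : ℕ) (W : List ℕ) (s : ℕ) (K : ℕ → List ℕ → ℕ → Bool) (src l tgt : ℕ) : Bool :=
  Bool.rec false
    (Bool.rec
      (List.rec false (fun b W' _ => Bool.rec false (K tgt W' s) (Nat.beq b l)) W)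
      (K tgt W s) (Nat.beq l k))
    (Nat.beq src x)

/-- The step given the reference `r` and its fact `c`. -/
def refAux (iv : ℕ → ℕ) (k n x : ℕ) (W : List ℕ) (s : ℕ) (K : ℕ → List ℕ → ℕ → Bool) (r c : ℕ) : Bool :=
  Bool.rec false
    (Bool.rec
      (refFin k x W s K (Nat.land c (nat_lit 4194303))
        (iv (Nat.land (Nat.shiftRight c (nat_lit 22)) (nat_lit 15))) (Nat.shiftRight c (nat_lit 26)))
      (refFin k x W s K (Nat.shiftRight c (nat_lit 26))
        (Nat.land (Nat.shiftRight c (nat_lit 22)) (nat_lit 15)) (Nat.land c (nat_lit 4194303)))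
      (Nat.beq (Nat.land r (nat_lit 1)) (nat_lit 0)))
    (Nat.ble (Nat.succ (Nat.shiftRight r (nat_lit 1))) n)

/-- Read one reference from the stream. -/
def refStep (F iv : ℕ → ℕ) (k n x : ℕ) (W : List ℕ) (s : ℕ) (K : ℕ → List ℕ → ℕ → Bool) : Bool :=
  refAux iv k n x W (Nat.shiftRight s (nat_lit 24)) K (Nat.land s (nat_lit 16777215))
    (F (Nat.shiftRight (Nat.land s (nat_lit 16777215)) (nat_lit 1)))

/-- Read `c` references from the stream. -/
def walkRefs (F iv : ℕ → ℕ) (k n c : ℕ) : ℕ → List ℕ → ℕ → (ℕ → List ℕ → ℕ → Bool) → Bool :=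
  Nat.rec (motive := fun _ => ℕ → List ℕ → ℕ → (ℕ → List ℕ → ℕ → Bool) → Bool)
    (fun x W s K => K x W s)
    (fun _ ih x W s K => refStep F iv k n x W s (fun e W' s' => ih e W' s' K))
    c

/-- The end of a path. -/
def finK (x0 : ℕ) (K : ℕ → Bool) (e : ℕ) (W : List ℕ) (s : ℕ) : Bool :=
  Bool.rec false (List.rec (K s) (fun _ _ _ => false) W) (Nat.beq e x0)

/-- The check of a gap of the word `W`. -/
def gapCheck (F iv : ℕ → ℕ) (k n x a y x0 n1 n2 s : ℕ) (K : ℕ → Bool) (W : List ℕ) : Bool :=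
  walkRefs F iv k n n1 x0 W s (fun e W1 s1 =>
    Bool.rec false
      (Bool.rec
        (List.rec false
          (fun b W2 _ => Bool.rec false (walkRefs F iv k n n2 y W2 s1 (finK x0 K)) (Nat.beq b a)) W1)
        (walkRefs F iv k n n2 y W1 s1 (finK x0 K))
        (Nat.beq a k))
      (Nat.beq e x))

/-- The check of the definition of a name. -/
def defCheck (PL : ℕ → ℕ) (x a y : ℕ) : Bool :=
  Bool.rec
    (Bool.rec false
      (Bool.rec false (Nat.beq (Nat.land (PL y) (nat_lit 15)) a)
        (Nat.beq (Nat.shiftRight (PL y) (nat_lit 4)) x))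
      (Nat.ble (Nat.succ x) y))
    false
    (Nat.beq y (nat_lit 0))

/-- Check the record of the fact `(x, a, y)` number `n`, at the head of the stream. -/
def factAux (PL iv F : ℕ → ℕ) (rlw hww : ℕ → List ℕ) (k n x a y s : ℕ) (K : ℕ → Bool) : Bool :=
  -- kinds: 0 definition, 1 composition, 2 gap of a relator, 3 gap of a word of the subgroup
  Bool.rec
    (Bool.rec
      (Bool.rec
        (frc hww (Nat.land (Nat.shiftRight s (nat_lit 2)) (nat_lit 1023))
          (gapCheck F iv k n x a y (nat_lit 0)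
            (Nat.land (Nat.shiftRight s (nat_lit 34)) (nat_lit 1023))
            (Nat.land (Nat.shiftRight s (nat_lit 44)) (nat_lit 1023))
            (Nat.shiftRight s (nat_lit 54)) K))
        (frc rlw (Nat.land (Nat.shiftRight s (nat_lit 2)) (nat_lit 1023))
          (gapCheck F iv k n x a y (Nat.land (Nat.shiftRight s (nat_lit 12)) (nat_lit 4194303))
            (Nat.land (Nat.shiftRight s (nat_lit 34)) (nat_lit 1023))
            (Nat.land (Nat.shiftRight s (nat_lit 44)) (nat_lit 1023))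
            (Nat.shiftRight s (nat_lit 54)) K))
        (Nat.beq (Nat.land s (nat_lit 3)) (nat_lit 2)))
      (walkRefs F iv k n (Nat.land (Nat.shiftRight s (nat_lit 2)) (nat_lit 1023)) x
        (Bool.rec [a] [] (Nat.beq a k)) (Nat.shiftRight s (nat_lit 12)) (finK y K))
      (Nat.beq (Nat.land s (nat_lit 3)) (nat_lit 1)))
    (Bool.rec false (K (Nat.shiftRight s (nat_lit 2))) (defCheck PL x a y))
    (Nat.beq (Nat.land s (nat_lit 3)) (nat_lit 0))

def factStep (F PL iv : ℕ → ℕ) (rlw hww : ℕ → List ℕ) (k n s : ℕ) (K : ℕ → Bool) : Bool :=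
  (fun c => factAux PL iv F rlw hww k n (Nat.shiftRight c (nat_lit 26))
    (Nat.land (Nat.shiftRight c (nat_lit 22)) (nat_lit 15)) (Nat.land c (nat_lit 4194303)) s K) (F n)

def chunkGo (F PL iv : ℕ → ℕ) (rlw hww : ℕ → List ℕ) (k c : ℕ) : ℕ → ℕ → Bool :=
  Nat.rec (motive := fun _ => ℕ → ℕ → Bool) (fun _ _ => true)
    (fun _ ih n s => factStep F PL iv rlw hww k n s (ih (Nat.succ n))) c

/-- Chunks of the proof: the number of facts is in the low 16 bits. -/
def checkAll (F PL iv : ℕ → ℕ) (rlw hww : ℕ → List ℕ) (k : ℕ) (L : List ℕ) : ℕ → Bool :=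
  List.rec (motive := fun _ => ℕ → Bool) (fun _ => true)
    (fun S _ ih n => Bool.rec false (ih (Nat.add n (Nat.land S (nat_lit 65535))))
      (chunkGo F PL iv rlw hww k (Nat.land S (nat_lit 65535)) n (Nat.shiftRight S (nat_lit 16))))
    L

def total (L : List ℕ) : ℕ :=
  List.rec (motive := fun _ => ℕ) (nat_lit 0) (fun S _ ih => Nat.add (Nat.land S (nat_lit 65535)) ih) L

/-! ### Soundness -/

theorem brec_and {b c : Bool} (h : (Bool.rec false c b : Bool) = true) : b = true ∧ c = true := by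
  cases b
  · exact absurd h (by simp)
  · exact ⟨rfl, h⟩

theorem brec_cases {b : Bool} {x y : Bool} (h : (Bool.rec x y b : Bool) = true) :
    (b = true ∧ y = true) ∨ (b = false ∧ x = true) := by
  cases b
  · exact Or.inr ⟨rfl, h⟩
  · exact Or.inl ⟨rfl, h⟩

theorem beq_eq {a b : ℕ} (h : Nat.beq a b = true) : a = b := Nat.eq_of_beq_eq_true h
theorem beq_ne {a b : ℕ} (h : Nat.beq a b = false) : a ≠ b := Nat.ne_of_beq_eq_false h

/-- The data of a proof. -/
structure D where
  F : ℕ → ℕ
  PL : ℕ → ℕ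
  iv : ℕ → ℕ
  k : ℕ
  rl : WT
  hw : WT

section Sound

variable {P : Type*} [Group P] (H : Subgroup P) (ℓ : ℕ → P) (d : D)

/-- Right cosets. -/
def Rel (x y : P) : Prop := x * y⁻¹ ∈ H

variable {H}

theorem Rel.refl (x : P) : Rel H x x := by simp [Rel, H.one_mem]
theorem Rel.symm {x y : P} (h : Rel H x y) : Rel H y x := by
  have := H.inv_mem h
  simpa [Rel] using this
theorem Rel.trans {x y z : P} (h : Rel H x y) (h' : Rel H y z) : Rel H x z := by
  have := H.mul_mem h h'
  simpa [Rel, mul_assoc] using this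
theorem Rel.mul_right {x y : P} (h : Rel H x y) (z : P) : Rel H (x * z) (y * z) := by
  simpa [Rel, mul_assoc] using h
theorem Rel.cancel {x y z : P} (h : Rel H (x * z) (y * z)) : Rel H x y := by
  simpa [Rel, mul_assoc] using h

/-- Representatives of names. -/
def rep (y : ℕ) : P :=
  if h : y ≠ 0 ∧ Nat.shiftRight (d.PL y) (nat_lit 4) < y then
    rep (Nat.shiftRight (d.PL y) (nat_lit 4)) * ℓ (Nat.land (d.PL y) (nat_lit 15))
  else 1
termination_by y
decreasing_by exact h.2

theorem rep_zero : rep ℓ d 0 = 1 := by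
  rw [rep]; simp

theorem rep_succ {y : ℕ} (h : y ≠ 0) (h' : Nat.shiftRight (d.PL y) (nat_lit 4) < y) :
    rep ℓ d y = rep ℓ d (Nat.shiftRight (d.PL y) (nat_lit 4)) * ℓ (Nat.land (d.PL y) (nat_lit 15)) := by
  rw [rep, dif_pos ⟨h, h'⟩]

variable (H)

/-- A fact is true. -/
def FactTrue (n : ℕ) : Prop :=
  Rel H (rep ℓ d (Nat.shiftRight (d.F n) (nat_lit 26)) *
      ℓ (Nat.land (Nat.shiftRight (d.F n) (nat_lit 22)) (nat_lit 15)))
    (rep ℓ d (Nat.land (d.F n) (nat_lit 4194303)))

variable {H ℓ d}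

variable (hk : ℓ d.k = 1) (hiv : ∀ a, ℓ (d.iv a) = (ℓ a)⁻¹)

include hiv in
theorem flip_true {x a y : ℕ} (h : Rel H (rep ℓ d x * ℓ a) (rep ℓ d y)) :
    Rel H (rep ℓ d y * ℓ (d.iv a)) (rep ℓ d x) := by
  rw [hiv]
  have h3 := H.inv_mem h
  simp only [Rel, mul_inv_rev, inv_inv] at h3 ⊢
  simpa [mul_assoc] using h3

include hk in
theorem refFin_sound {x : ℕ} {W : List ℕ} {s : ℕ} {K : ℕ → List ℕ → ℕ → Bool} {src l tgt : ℕ}
    (hr : Rel H (rep ℓ d src * ℓ l) (rep ℓ d tgt))
    (h : refFin d.k x W s K src l tgt = true) :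
    ∃ e W' Q, W = Q ++ W' ∧ Rel H (rep ℓ d x * ev ℓ Q) (rep ℓ d e) ∧ K e W' s = true := by
  obtain ⟨h1, h2⟩ := brec_and h
  have e1 := beq_eq h1
  subst e1
  rcases brec_cases h2 with ⟨h3, h4⟩ | ⟨h3, h4⟩
  · have e2 := beq_eq h3
    subst e2
    rw [hk, mul_one] at hr
    refine ⟨tgt, W, [], rfl, ?_, h4⟩
    simpa [ev] using hr
  · cases W with
    | nil => exact absurd h4 (by simp)
    | cons b W' =>
      obtain ⟨h5, h6⟩ := brec_and h4
      have e3 := beq_eq h5
      subst e3
      refine ⟨tgt, W', [b], rfl, ?_, h6⟩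
      simpa [ev] using hr

include hk hiv in
theorem refStep_sound {n x : ℕ} {W : List ℕ} {s : ℕ} {K : ℕ → List ℕ → ℕ → Bool}
    (hn : ∀ m < n, FactTrue H ℓ d m)
    (h : refStep d.F d.iv d.k n x W s K = true) :
    ∃ e W' Q, W = Q ++ W' ∧ Rel H (rep ℓ d x * ev ℓ Q) (rep ℓ d e) ∧
      K e W' (Nat.shiftRight s (nat_lit 24)) = true := by
  unfold refStep refAux at h
  obtain ⟨h1, h2⟩ := brec_and h
  have h3 := hn _ (Nat.lt_of_succ_le (Nat.le_of_ble_eq_true h1))
  unfold FactTrue at h3
  rcases brec_cases h2 with ⟨-, h4⟩ | ⟨-, h4⟩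
  · exact refFin_sound hk h3 h4
  · exact refFin_sound hk (flip_true hiv h3) h4

include hk hiv in
theorem walkRefs_sound {n : ℕ} (hn : ∀ m < n, FactTrue H ℓ d m) :
    ∀ (c x : ℕ) (W : List ℕ) (s : ℕ) (K : ℕ → List ℕ → ℕ → Bool),
    walkRefs d.F d.iv d.k n c x W s K = true →
    ∃ e W' Q s', W = Q ++ W' ∧ Rel H (rep ℓ d x * ev ℓ Q) (rep ℓ d e) ∧ K e W' s' = true := by
  intro c
  induction c with
  | zero =>
    intro x W s K h
    exact ⟨x, W, [], s, rfl, by simpa [ev] using Rel.refl _, h⟩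
  | succ c ih =>
    intro x W s K h
    have h' : refStep d.F d.iv d.k n x W s
        (fun e W' s' => walkRefs d.F d.iv d.k n c e W' s' K) = true := h
    obtain ⟨e, W', Q, hW, hr, h2⟩ := refStep_sound hk hiv hn h'
    obtain ⟨e2, W2, Q2, s2, hW2, hr2, h3⟩ := ih _ _ _ _ h2
    refine ⟨e2, W2, Q ++ Q2, s2, by rw [hW, hW2, List.append_assoc], ?_, h3⟩
    rw [ev_append, ← mul_assoc]
    exact (hr.mul_right _).trans hr2

theorem finK_sound {x0 : ℕ} {K : ℕ → Bool} {e : ℕ} {W : List ℕ} {s : ℕ}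
    (h : finK x0 K e W s = true) : e = x0 ∧ W = [] ∧ K s = true := by
  obtain ⟨h1, h2⟩ := brec_and h
  refine ⟨beq_eq h1, ?_⟩
  cases W with
  | nil => exact ⟨rfl, h2⟩
  | cons b W' => exact absurd h2 (by simp)

include hk hiv in
/-- A gap of a word `W` gives the fact. -/
theorem gap_sound {n x a y x0 n1 n2 s : ℕ} {K : ℕ → Bool} {W : List ℕ}
    (hn : ∀ m < n, FactTrue H ℓ d m)
    (hC : Rel H (rep ℓ d x0 * ev ℓ W) (rep ℓ d x0))
    (h : gapCheck d.F d.iv d.k n x a y x0 n1 n2 s K W = true) :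
    Rel H (rep ℓ d x * ℓ a) (rep ℓ d y) ∧ ∃ s', K s' = true := by
  unfold gapCheck at h
  obtain ⟨e, W1, Q, s1, hW, hr, h2⟩ := walkRefs_sound hk hiv hn _ _ _ _ _ h
  obtain ⟨h3, h4⟩ := brec_and h2
  have e1 := beq_eq h3
  subst e1
  rcases brec_cases h4 with ⟨h5, h6⟩ | ⟨h5, h6⟩
  · have e2 := beq_eq h5
    subst e2
    obtain ⟨e3, W3, Q3, s3, hW3, hr3, h7⟩ := walkRefs_sound hk hiv hn _ _ _ _ _ h6
    obtain ⟨rfl, rfl, h8⟩ := finK_sound h7
    refine ⟨?_, _, h8⟩
    rw [hk, mul_one]
    apply Rel.cancel (z := ev ℓ Q3)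
    rw [hW, hW3, List.append_nil, ev_append, ← mul_assoc] at hC
    exact ((hr.mul_right _).symm.trans hC).trans hr3.symm
  · cases W1 with
    | nil => exact absurd h6 (by simp)
    | cons b W2 =>
      obtain ⟨h7, h8⟩ := brec_and h6
      have e3 := beq_eq h7
      subst e3
      obtain ⟨e4, W3, Q3, s3, hW3, hr3, h9⟩ := walkRefs_sound hk hiv hn _ _ _ _ _ h8
      obtain ⟨he, rfl, h10⟩ := finK_sound h9
      rw [he] at hr3
      refine ⟨?_, _, h10⟩
      apply Rel.cancel (z := ev ℓ Q3)
      rw [hW, hW3, List.append_nil, ev_append] at hC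
      simp only [ev] at hC
      have e5 : Rel H (rep ℓ d x0 * ev ℓ Q * ℓ b * ev ℓ Q3) (rep ℓ d x0) := by
        simpa [mul_assoc] using hC
      have e6 := ((hr.mul_right (ℓ b)).mul_right (ev ℓ Q3))
      exact (e6.symm.trans e5).trans hr3.symm

include hk hiv in
theorem factAux_sound (hrl : ∀ r, ev ℓ (d.rl.get r) = 1) (hhw : ∀ r, ev ℓ (d.hw.get r) ∈ H)
    {n x a y s : ℕ} {K : ℕ → Bool}
    (hn : ∀ m < n, FactTrue H ℓ d m)
    (h : factAux d.PL d.iv d.F d.rl.get d.hw.get d.k n x a y s K = true) :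
    Rel H (rep ℓ d x * ℓ a) (rep ℓ d y) ∧ ∃ s', K s' = true := by
  unfold factAux at h
  rcases brec_cases h with ⟨-, h1⟩ | ⟨-, h1⟩
  · -- definition
    obtain ⟨h2, h3⟩ := brec_and h1
    refine ⟨?_, _, h3⟩
    unfold defCheck at h2
    rcases brec_cases h2 with ⟨-, h4⟩ | ⟨h4, h5⟩
    · exact absurd h4 (by simp)
    · obtain ⟨h6, h7⟩ := brec_and h5
      obtain ⟨h8, h9⟩ := brec_and h7
      have e0 := beq_ne h4
      have e1 := Nat.lt_of_succ_le (Nat.le_of_ble_eq_true h6)
      have e2 := beq_eq h8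
      have e3 := beq_eq h9
      rw [rep_succ ℓ d e0 (by rw [e2]; exact e1), e2, e3]
      exact Rel.refl _
  · rcases brec_cases h1 with ⟨-, h2⟩ | ⟨-, h2⟩
    · -- composition
      obtain ⟨e, W1, Q, s1, hW, hr, h3⟩ := walkRefs_sound hk hiv hn _ _ _ _ _ h2
      obtain ⟨rfl, rfl, h4⟩ := finK_sound h3
      refine ⟨?_, _, h4⟩
      cases ha : Nat.beq a d.k with
      | true =>
        rw [ha] at hW
        have hQ : Q = [] := by simpa using hW.symm
        subst hQ
        have e0 := beq_eq ha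
        rw [e0, hk, mul_one]
        simpa [ev] using hr
      | false =>
        rw [ha] at hW
        have hQ : Q = [a] := by simpa using hW.symm
        subst hQ
        simpa [ev] using hr
    · rcases brec_cases h2 with ⟨-, h3⟩ | ⟨-, h3⟩
      · rw [frc_eq] at h3
        refine gap_sound hk hiv hn ?_ h3
        rw [hrl, mul_one]
        exact Rel.refl _
      · rw [frc_eq] at h3
        refine gap_sound hk hiv hn ?_ h3
        rw [rep_zero, one_mul]
        simpa [Rel] using hhw _

include hk hiv in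
theorem chunkGo_sound (hrl : ∀ r, ev ℓ (d.rl.get r) = 1) (hhw : ∀ r, ev ℓ (d.hw.get r) ∈ H) :
    ∀ (c n s : ℕ), (∀ m < n, FactTrue H ℓ d m) →
    chunkGo d.F d.PL d.iv d.rl.get d.hw.get d.k c n s = true →
    ∀ m < n + c, FactTrue H ℓ d m := by
  intro c
  induction c with
  | zero => intro n s hn _; simpa using hn
  | succ c ih =>
    intro n s hn h
    have h' : factStep d.F d.PL d.iv d.rl.get d.hw.get d.k n s
        (chunkGo d.F d.PL d.iv d.rl.get d.hw.get d.k c (Nat.succ n)) = true := h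
    unfold factStep at h'
    obtain ⟨h1, s', h2⟩ := factAux_sound hk hiv hrl hhw hn h'
    have h3 : ∀ m < n + 1, FactTrue H ℓ d m := by
      intro m hm
      rcases Nat.lt_succ_iff_lt_or_eq.1 hm with h4 | rfl
      · exact hn m h4
      · exact h1
    have h4 := ih (n + 1) s' h3 h2
    intro m hm
    exact h4 m (by omega)

include hk hiv in
/-- Extend the list of true facts by a list of chunks. -/
theorem all_sound (hrl : ∀ r, ev ℓ (d.rl.get r) = 1) (hhw : ∀ r, ev ℓ (d.hw.get r) ∈ H) :
    ∀ (L : List ℕ) (n : ℕ), (∀ m < n, FactTrue H ℓ d m) →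
    checkAll d.F d.PL d.iv d.rl.get d.hw.get d.k L n = true →
    ∀ m < n + total L, FactTrue H ℓ d m := by
  intro L
  induction L with
  | nil => intro n hn _; simpa [total] using hn
  | cons S l ih =>
    intro n hn h
    obtain ⟨h1, h2⟩ := brec_and h
    have h3 := chunkGo_sound hk hiv hrl hhw _ _ _ hn h1
    have h4 := ih _ h3 h2
    intro m hm
    have e1 : total (S :: l) = Nat.add (Nat.land S (nat_lit 65535)) (total l) := rfl
    have e3 : Nat.add (Nat.land S (nat_lit 65535)) (total l) = Nat.land S (nat_lit 65535) + total l := rfl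
    rw [e1, e3] at hm
    have hm' : m < n + Nat.land S (nat_lit 65535) + total l := by rw [Nat.add_assoc]; exact hm
    exact h4 m hm'

end Sound

/-! ### The final table -/

section Final

variable {P : Type*} [Group P] {H : Subgroup P} {ℓ : ℕ → P}

/-- A complete table of true edges covers all right cosets. -/
theorem cover_of_edges {t : ℕ → ℕ → ℕ} {k N : ℕ} {r : ℕ → P} (h0 : r 0 = 1) (hN : 0 < N)
    (hedge : ∀ i a, i < N → a < k → Rel H (r i * ℓ a) (r (t a i)) ∧ t a i < N)
    (hinv : ∀ a, a < k → ∃ b, b < k ∧ ℓ b = (ℓ a)⁻¹)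
    (hgen : Subgroup.closure (ℓ '' {a | a < k}) = ⊤) (x : P) :
    ∃ i, i < N ∧ Rel H x (r i) := by
  have key : ∀ y : P, ∀ i, i < N → ∃ j, j < N ∧ Rel H (r i * y) (r j) := by
    intro y
    have hy : y ∈ Subgroup.closure (ℓ '' {a | a < k}) := by rw [hgen]; trivial
    rw [← Subgroup.mem_toSubmonoid, Subgroup.closure_toSubmonoid] at hy
    induction hy using Submonoid.closure_induction with
    | mem z hz =>
      intro i hi
      have hz' : ∃ a, a < k ∧ ℓ a = z := by
        rcases hz with ⟨a, ha, rfl⟩ | hz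
        · exact ⟨a, ha, rfl⟩
        · obtain ⟨a, ha, hae⟩ := hz
          obtain ⟨b, hb, hbe⟩ := hinv a ha
          exact ⟨b, hb, by rw [hbe, hae, inv_inv]⟩
      obtain ⟨a, ha, rfl⟩ := hz'
      exact ⟨_, (hedge i a hi ha).2, (hedge i a hi ha).1⟩
    | one => intro i hi; exact ⟨i, hi, by simpa using Rel.refl _⟩
    | mul y z _ _ hy hz =>
      intro i hi
      obtain ⟨j, hj, hr⟩ := hy i hi
      obtain ⟨l, hl, hr2⟩ := hz j hj
      refine ⟨l, hl, ?_⟩
      rw [← mul_assoc]
      exact (hr.mul_right z).trans hr2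
  obtain ⟨j, hj, hr⟩ := key x 0 hN
  rw [h0, one_mul] at hr
  exact ⟨j, hj, hr⟩

variable {N : ℕ} [NeZero N] {t : ℕ → ℕ → ℕ} {k : ℕ} {r : ℕ → P}
  {act : P →* (Equiv.Perm (Fin N))ᵐᵒᵖ}

/-- The right action on the table. -/
def ract (act : P →* (Equiv.Perm (Fin N))ᵐᵒᵖ) (x : P) (i : Fin N) : Fin N :=
  (MulOpposite.unop (act x)) i

theorem ract_mul (x y : P) (i : Fin N) : ract act (x * y) i = ract act y (ract act x i) := by
  simp [ract, map_mul]

theorem ract_one (i : Fin N) : ract act 1 i = i := by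
  simp [ract]

theorem ract_inv (x : P) (i : Fin N) : ract act x⁻¹ (ract act x i) = i := by
  rw [← ract_mul]; simp [ract_one]

theorem ract_inv' (x : P) (i : Fin N) : ract act x (ract act x⁻¹ i) = i := by
  rw [← ract_mul]; simp [ract_one]

/-- All the properties of the coset structure. -/
structure TableOK (H : Subgroup P) (ℓ : ℕ → P) (t : ℕ → ℕ → ℕ) (k N : ℕ) [NeZero N] (r : ℕ → P)
    (act : P →* (Equiv.Perm (Fin N))ᵐᵒᵖ) (tp ta : ℕ → ℕ) : Prop where
  h0 : r 0 = 1
  hedge : ∀ i a, i < N → a < k → Rel H (r i * ℓ a) (r (t a i)) ∧ t a i < N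
  hinv : ∀ a, a < k → ∃ b, b < k ∧ ℓ b = (ℓ a)⁻¹
  hgen : Subgroup.closure (ℓ '' {a | a < k}) = ⊤
  hact : ∀ a, a < k → ∀ i : Fin N, (ract act (ℓ a) i : ℕ) = t a i
  hfix : ∀ h ∈ H, ract act h ⟨0, NeZero.pos N⟩ = ⟨0, NeZero.pos N⟩
  htree : ∀ i, i < N → i ≠ 0 → tp i < i ∧ ta i < k ∧ t (ta i) (tp i) = i

variable {tp ta : ℕ → ℕ}

theorem TableOK.cover (S : TableOK H ℓ t k N r act tp ta) (x : P) : ∃ i, i < N ∧ Rel H x (r i) :=
  cover_of_edges S.h0 (NeZero.pos N) S.hedge S.hinv S.hgen x

theorem TableOK.ract_rel (S : TableOK H ℓ t k N r act tp ta) {x y : P} (h : Rel H x y) :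
    ract act x ⟨0, NeZero.pos N⟩ = ract act y ⟨0, NeZero.pos N⟩ := by
  have h1 : x = (x * y⁻¹) * y := by group
  rw [h1, ract_mul, S.hfix _ h]

/-- The position of `r i` is `i`. -/
theorem TableOK.pos (S : TableOK H ℓ t k N r act tp ta) : ∀ i, (hi : i < N) →
    ract act (r i) ⟨0, NeZero.pos N⟩ = ⟨i, hi⟩ := by
  intro i
  induction i using Nat.strong_induction_on with
  | _ i ih =>
    intro hi
    by_cases h0 : i = 0
    · subst h0
      rw [S.h0, ract_one]
    · obtain ⟨h1, h2, h3⟩ := S.htree i hi h0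
      have h4 := S.hedge (tp i) (ta i) (lt_trans h1 hi) h2
      rw [h3] at h4
      have h5 := S.ract_rel h4.1
      rw [← h5, ract_mul, ih _ h1 (lt_trans h1 hi)]
      apply Fin.ext
      rw [S.hact _ h2]
      exact h3

theorem TableOK.rel_inj (S : TableOK H ℓ t k N r act tp ta) {i j : ℕ} (hi : i < N) (hj : j < N)
    (h : Rel H (r i) (r j)) : i = j := by
  have h1 := S.ract_rel h
  rw [S.pos i hi, S.pos j hj] at h1
  exact congrArg Fin.val h1

/-- The left cosets named by the table. -/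
def lc (H : Subgroup P) (r : ℕ → P) (i : ℕ) : P ⧸ H := QuotientGroup.mk (r i)⁻¹

theorem lc_eq_iff {i j : ℕ} : lc H r i = lc H r j ↔ Rel H (r i) (r j) := by
  unfold lc Rel
  rw [QuotientGroup.eq]
  simp

theorem TableOK.lc_surj (S : TableOK H ℓ t k N r act tp ta) (q : P ⧸ H) :
    ∃ i, i < N ∧ q = lc H r i := by
  obtain ⟨g, rfl⟩ := QuotientGroup.mk_surjective q
  obtain ⟨i, hi, hr⟩ := S.cover g⁻¹
  refine ⟨i, hi, ?_⟩
  unfold lc
  rw [QuotientGroup.eq]
  exact hr

theorem TableOK.index (S : TableOK H ℓ t k N r act tp ta) : H.index = N := by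
  let f : Fin N → P ⧸ H := fun i => lc H r i
  have hf : Function.Bijective f := by
    constructor
    · intro i j hij
      exact Fin.ext (S.rel_inj i.2 j.2 (lc_eq_iff.1 hij))
    · intro q
      obtain ⟨i, hi, rfl⟩ := S.lc_surj q
      exact ⟨⟨i, hi⟩, rfl⟩
  rw [Subgroup.index, ← Nat.card_congr (Equiv.ofBijective f hf), Nat.card_eq_fintype_card, Fintype.card_fin]

/-- Smul on named cosets. -/
theorem TableOK.smul_lc (S : TableOK H ℓ t k N r act tp ta) (h : H) {j : ℕ} (hj : j < N) :
    (h • lc H r j : P ⧸ H) = lc H r (ract act (h : P)⁻¹ ⟨j, hj⟩) := by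
  obtain ⟨i, hi, hr⟩ := S.cover (r j * (h : P)⁻¹)
  have h1 : (ract act (h : P)⁻¹ ⟨j, hj⟩ : Fin N) = ⟨i, hi⟩ := by
    have h2 := S.ract_rel hr
    rw [ract_mul, S.pos j hj, S.pos i hi] at h2
    exact h2
  rw [h1]
  show (QuotientGroup.mk ((h : P) * (r j)⁻¹) : P ⧸ H) = QuotientGroup.mk (r i)⁻¹
  rw [QuotientGroup.eq]
  have e : ((h : P) * (r j)⁻¹)⁻¹ * (r i)⁻¹ = (r j * (h : P)⁻¹) * (r i)⁻¹ := by
    group
  rw [e]
  exact hr

/-- Orbits from a closed and reachable set of table positions. -/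
theorem TableOK.orbit_eq (S : TableOK H ℓ t k N r act tp ta) {j : ℕ} (hj : j < N) {V : ℕ → Prop}
    (h1 : V j) (hclosed : ∀ h ∈ H, ∀ i : Fin N, V i → V (ract act h i))
    (hreach : ∀ i : Fin N, V i → ∃ h ∈ H, ract act h ⟨j, hj⟩ = i) :
    MulAction.orbit H (lc H r j) = (fun i => lc H r i) '' {i | i < N ∧ V i} := by
  ext q
  constructor
  · rintro ⟨h, rfl⟩
    have e := S.smul_lc h hj
    refine ⟨_, ⟨(ract act (h : P)⁻¹ ⟨j, hj⟩).2, ?_⟩, e.symm⟩
    exact hclosed _ (H.inv_mem h.2) _ h1
  · rintro ⟨i, ⟨hi, hV⟩, rfl⟩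
    obtain ⟨h, hh, he⟩ := hreach ⟨i, hi⟩ hV
    refine ⟨⟨h⁻¹, H.inv_mem hh⟩, ?_⟩
    have e := S.smul_lc ⟨h⁻¹, H.inv_mem hh⟩ hj
    show ((⟨h⁻¹, H.inv_mem hh⟩ : H) • lc H r j : P ⧸ H) = lc H r i
    rw [e]
    have e2 : (((⟨h⁻¹, H.inv_mem hh⟩ : H) : P)⁻¹) = h := by simp
    rw [e2, he]

theorem TableOK.orbit_ncard (S : TableOK H ℓ t k N r act tp ta) {j : ℕ} (hj : j < N) {V : ℕ → Prop}
    (h1 : V j) (hclosed : ∀ h ∈ H, ∀ i : Fin N, V i → V (ract act h i))
    (hreach : ∀ i : Fin N, V i → ∃ h ∈ H, ract act h ⟨j, hj⟩ = i) :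
    (MulAction.orbit H (lc H r j)).ncard = {i | i < N ∧ V i}.ncard := by
  rw [S.orbit_eq hj h1 hclosed hreach]
  apply Set.ncard_image_of_injOn
  intro a ha b hb hab
  exact S.rel_inj ha.1 hb.1 (lc_eq_iff.1 hab)

end Final

/-! ### Presentations -/

section Pres

variable {α : Type} [DecidableEq α]

/-- The letters of a word of the free group. -/
def letters (code : α × Bool → ℕ) (r : FreeGroup α) : List ℕ := (FreeGroup.toWord r).map code

/-- The letters in the presented group. -/
def lt (R : Set (FreeGroup α)) (gs : ℕ → α × Bool) (k a : ℕ) : PresentedGroup R :=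
  if a < k then PresentedGroup.mk R (FreeGroup.mk [gs a]) else 1

variable {R : Set (FreeGroup α)} {gs : ℕ → α × Bool} {code : α × Bool → ℕ} {k : ℕ}

theorem ev_letters (hcode : ∀ x, lt R gs k (code x) = PresentedGroup.mk R (FreeGroup.mk [x]))
    (r : FreeGroup α) : ev (lt R gs k) (letters code r) = PresentedGroup.mk R r := by
  have key : ∀ L : List (α × Bool), ev (lt R gs k) (L.map code) = PresentedGroup.mk R (FreeGroup.mk L) := by
    intro L
    induction L with
    | nil => simp only [List.map_nil, ev]; exact (map_one _).symm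
    | cons x L ih =>
      simp only [List.map_cons, ev]
      rw [ih, hcode]
      have : FreeGroup.mk (x :: L) = FreeGroup.mk [x] * FreeGroup.mk L := by
        rw [FreeGroup.mul_mk]; rfl
      rw [this, map_mul]
  unfold letters
  rw [key, FreeGroup.mk_toWord]

variable {N : ℕ} [NeZero N] {t : ℕ → ℕ → ℕ}

/-- The permutation of a signed generator. -/
def genPerm (t : ℕ → ℕ → ℕ) (code : α × Bool → ℕ) (N : ℕ)
    (hle : ∀ x i, i < N → t (code x) i < N)
    (hinvT : ∀ (x : α × Bool) i, i < N → t (code (x.1, !x.2)) (t (code x) i) = i) (g : α) :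
    Equiv.Perm (Fin N) where
  toFun i := ⟨t (code (g, true)) i, hle _ _ i.2⟩
  invFun i := ⟨t (code (g, false)) i, hle _ _ i.2⟩
  left_inv i := Fin.ext (hinvT (g, true) i i.2)
  right_inv i := Fin.ext (hinvT (g, false) i i.2)

theorem exists_act (hle : ∀ x i, i < N → t (code x) i < N)
    (hinvT : ∀ (x : α × Bool) i, i < N → t (code (x.1, !x.2)) (t (code x) i) = i)
    (hR : ∀ r ∈ R, ∀ i, i < N → walk t i (letters code r) = i) :
    ∃ act : PresentedGroup R →* (Equiv.Perm (Fin N))ᵐᵒᵖ, ∀ (r : FreeGroup α) (i : Fin N),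
      (ract act (PresentedGroup.mk R r) i : ℕ) = walk t i (letters code r) := by
  let f : α → (Equiv.Perm (Fin N))ᵐᵒᵖ := fun g => MulOpposite.op (genPerm t code N hle hinvT g)
  have hlift : ∀ (L : List (α × Bool)) (i : Fin N),
      ((MulOpposite.unop (FreeGroup.lift f (FreeGroup.mk L))) i : ℕ) = walk t i (L.map code) := by
    intro L
    induction L with
    | nil => intro i; simp only [List.map_nil, walk]; rfl
    | cons x L ih =>
      intro i
      have e : FreeGroup.mk (x :: L) = FreeGroup.mk [x] * FreeGroup.mk L := by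
        rw [FreeGroup.mul_mk]; rfl
      rw [e, map_mul, MulOpposite.unop_mul, Equiv.Perm.mul_apply, ih]
      simp only [List.map_cons, walk]
      congr 1
      obtain ⟨g, b⟩ := x
      cases b with
      | true =>
        have e1 : FreeGroup.mk [(g, true)] = FreeGroup.of g := rfl
        rw [e1, FreeGroup.lift_apply_of]
        rfl
      | false =>
        have e1 : FreeGroup.mk [(g, false)] = (FreeGroup.of g)⁻¹ := rfl
        rw [e1, map_inv, FreeGroup.lift_apply_of]
        rfl
  have hr : ∀ (r : FreeGroup α) (i : Fin N),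
      ((MulOpposite.unop (FreeGroup.lift f r)) i : ℕ) = walk t i (letters code r) := by
    intro r i
    conv_lhs => rw [← FreeGroup.mk_toWord (x := r)]
    exact hlift _ i
  have h1 : ∀ r ∈ R, FreeGroup.lift f r = 1 := by
    intro r hrR
    apply MulOpposite.unop_injective
    ext i
    rw [hr, hR r hrR i i.2]
    rfl
  refine ⟨PresentedGroup.toGroup h1, ?_⟩
  intro r i
  exact hr r i

/-- A final edge, given the reference. -/
def edgeFin (A : ℕ → ℕ) (a i j src l tgt : ℕ) : Bool :=
  Bool.rec false (Bool.rec false (Nat.beq tgt (A j)) (Nat.beq l a)) (Nat.beq src (A i))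

def edgeAux (iv A : ℕ → ℕ) (M N a i j r c : ℕ) : Bool :=
  Bool.rec false
    (Bool.rec false
      (Bool.rec
        (edgeFin A a i j (Nat.land c (nat_lit 4194303))
          (iv (Nat.land (Nat.shiftRight c (nat_lit 22)) (nat_lit 15))) (Nat.shiftRight c (nat_lit 26)))
        (edgeFin A a i j (Nat.shiftRight c (nat_lit 26))
          (Nat.land (Nat.shiftRight c (nat_lit 22)) (nat_lit 15)) (Nat.land c (nat_lit 4194303)))
        (Nat.beq (Nat.land r (nat_lit 1)) (nat_lit 0)))
      (Nat.ble (Nat.succ j) N))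
    (Nat.ble (Nat.succ (Nat.shiftRight r (nat_lit 1))) M)

/-- Kernel check of the final edge at `i` of the letter `a`, with table `t` and references `e`. -/
def edgeOK (F iv A : ℕ → ℕ) (M N : ℕ) (t e : ℕ → ℕ) (a i : ℕ) : Bool :=
  (fun r => edgeAux iv A M N a i (t i) r (F (Nat.shiftRight r (nat_lit 1)))) (e i)

/-- Kernel check of the spanning tree of the final table at `i`. -/
def treeAt (t : ℕ → ℕ → ℕ) (tp ta : ℕ → ℕ) (k i : ℕ) : Bool :=
  Bool.rec
    (Bool.rec false
      (Bool.rec false (Nat.beq (t (ta i) (tp i)) i) (Nat.ble (Nat.succ (ta i)) k))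
      (Nat.ble (Nat.succ (tp i)) i))
    true
    (Nat.beq i (nat_lit 0))

/-- All the checks at a coset. -/
def allAt (L : List (ℕ → Bool)) (i : ℕ) : Bool :=
  List.rec (motive := fun _ => Bool) true (fun f _ ih => Bool.rec false ih (f i)) L

/-- A range of cosets. -/
def rangeAll (P : ℕ → Bool) (lo len : ℕ) : Bool :=
  Nat.rec (motive := fun _ => Bool) true (fun m ih => Bool.rec false ih (P (Nat.add lo m))) len

theorem allAt_spec : ∀ {L : List (ℕ → Bool)} {i : ℕ}, allAt L i = true → ∀ f ∈ L, f i = true := by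
  intro L
  induction L with
  | nil => intro i _ f hf; simp at hf
  | cons g L ih =>
    intro i h f hf
    obtain ⟨h1, h2⟩ := brec_and h
    rcases List.mem_cons.1 hf with rfl | hf
    · exact h1
    · exact ih h2 f hf

theorem range_start {P : ℕ → Bool} : ∀ i < 0, P i = true := fun _ h => absurd h (Nat.not_lt_zero _)

theorem range_step {P : ℕ → Bool} {a len b : ℕ} (h1 : ∀ i < a, P i = true)
    (h2 : rangeAll P a len = true) (hb : a + len = b) : ∀ i < b, P i = true := by
  subst hb
  induction len with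
  | zero => simpa using h1
  | succ m ih =>
    obtain ⟨h3, h4⟩ := brec_and h2
    have h5 := ih h4
    intro i hi
    rcases Nat.lt_succ_iff_lt_or_eq.1 hi with h6 | h6
    · exact h5 i h6
    · subst h6
      exact h3

/-- Inverse of a word. -/
def invW (iv : ℕ → ℕ) (w : List ℕ) : List ℕ := (w.reverse).map iv

theorem ev_invW {P : Type*} [Group P] {ℓ : ℕ → P} {iv : ℕ → ℕ} (hiv : ∀ a, ℓ (iv a) = (ℓ a)⁻¹)
    (w : List ℕ) : ev ℓ (invW iv w) = (ev ℓ w)⁻¹ := by
  unfold invW
  induction w with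
  | nil => simp [ev]
  | cons a w ih =>
    simp only [List.reverse_cons, List.map_append, List.map_cons, List.map_nil, ev_append, ev, ih, hiv]
    group

theorem ev_rotate {P : Type*} [Group P] {ℓ : ℕ → P} {w : List ℕ} (h : ev ℓ w = 1) (s : ℕ) :
    ev ℓ (w.rotate s) = 1 := by
  have h1 : ev ℓ (w.take (s % w.length)) * ev ℓ (w.drop (s % w.length)) = 1 := by
    rw [← ev_append, List.take_append_drop, h]
  rw [List.rotate_eq_drop_append_take_mod, ev_append]
  exact mul_eq_one_iff_eq_inv.2 (mul_eq_one_iff_eq_inv'.1 h1 ▸ rfl) |> fun h => h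

/-- A word derived from base words. -/
def derivedOK (iv : ℕ → ℕ) (base : List (List ℕ)) (W : List ℕ) : Bool :=
  (base.any fun B => (List.range B.length).any fun s =>
      (W == B.rotate s) || (W == invW iv (B.rotate s))) ||
    (match W with
     | [x, y] => x == iv y
     | _ => false)

theorem ev_derived {P : Type*} [Group P] {ℓ : ℕ → P} {iv : ℕ → ℕ} (hiv : ∀ a, ℓ (iv a) = (ℓ a)⁻¹)
    {base : List (List ℕ)} (hb : ∀ B ∈ base, ev ℓ B = 1) {W : List ℕ} (h : derivedOK iv base W = true) :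
    ev ℓ W = 1 := by
  unfold derivedOK at h
  rw [Bool.or_eq_true] at h
  rcases h with h | h
  · rw [List.any_eq_true] at h
    obtain ⟨B, hB, h⟩ := h
    rw [List.any_eq_true] at h
    obtain ⟨s, -, h⟩ := h
    rw [Bool.or_eq_true, beq_iff_eq, beq_iff_eq] at h
    rcases h with rfl | rfl
    · exact ev_rotate (hb B hB) s
    · rw [ev_invW hiv, ev_rotate (hb B hB) s, inv_one]
  · match W, h with
    | [x, y], h =>
      simp only [beq_iff_eq] at h
      subst h
      simp [ev, hiv]

end Pres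


section Main

variable {α : Type} [DecidableEq α] {R : Set (FreeGroup α)} {gs : ℕ → α × Bool} {code : α × Bool → ℕ}
  {k : ℕ} {d : D} {S : Set (FreeGroup α)} {SL : List (FreeGroup α)} {WL : List (List ℕ)}

/-- The subgroup of the presented group. -/
abbrev subH (R S : Set (FreeGroup α)) : Subgroup (PresentedGroup R) :=
  (Subgroup.closure S).map (PresentedGroup.mk R)

/-- The static facts on the presentation needed by the replay. -/
structure Base (R S : Set (FreeGroup α)) (gs : ℕ → α × Bool) (code : α × Bool → ℕ) (k : ℕ) (d : D)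
    (SL : List (FreeGroup α)) (WL : List (List ℕ)) : Prop where
  hcode : ∀ x, lt R gs k (code x) = PresentedGroup.mk R (FreeGroup.mk [x])
  hcodek : ∀ x, code x < k
  hgs : ∀ a, a < k → code (gs a) = a
  hdk : d.k = k
  hflip : ∀ x : α × Bool, code (x.1, !x.2) = d.iv (code x)
  hivk : ∀ a, k ≤ a → k ≤ d.iv a
  hS : ∀ s, s ∈ S ↔ s ∈ SL
  hRL : ∀ r ∈ R, letters code r ∈ WL
  hWL : ∀ B ∈ WL, ∃ r ∈ R, B = letters code r
  hder : ∀ W ∈ d.rl.words, derivedOK d.iv WL W = true
  hhw : d.hw.words = SL.map (letters code)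

theorem Base.hk (B : Base R S gs code k d SL WL) : lt R gs k d.k = 1 := by
  rw [B.hdk]; simp [lt]

theorem Base.hinv (B : Base R S gs code k d SL WL) (a : ℕ) :
    lt R gs k (d.iv a) = (lt R gs k a)⁻¹ := by
  by_cases ha : a < k
  · have h0 := B.hflip (gs a)
    rw [B.hgs a ha] at h0
    have h1 := B.hcode ((gs a).1, !(gs a).2)
    rw [← h0, h1]
    have h2 : lt R gs k a = PresentedGroup.mk R (FreeGroup.mk [gs a]) := by simp [lt, ha]
    rw [h2, ← map_inv]
    congr 1
  · have h1 : ¬ d.iv a < k := not_lt.2 (B.hivk a (not_lt.1 ha))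
    simp [lt, ha, h1]

theorem Base.hrl (B : Base R S gs code k d SL WL) : ∀ r, ev (lt R gs k) (d.rl.get r) = 1 := by
  intro r
  apply ev_derived B.hinv (base := WL) _ (B.hder _ (WT.get_mem _ r))
  intro b hb
  obtain ⟨r, hr, rfl⟩ := B.hWL b hb
  rw [ev_letters B.hcode]
  exact PresentedGroup.mk_eq_one_iff.2 (Subgroup.subset_normalClosure hr)

theorem Base.hhwmem (B : Base R S gs code k d SL WL) :
    ∀ r, ev (lt R gs k) (d.hw.get r) ∈ subH R S := by
  intro r
  have hW := WT.get_mem d.hw r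
  rw [B.hhw] at hW
  obtain ⟨s, hs, hse⟩ := List.mem_map.1 hW
  rw [← hse, ev_letters B.hcode]
  exact ⟨s, Subgroup.subset_closure ((B.hS s).2 hs), rfl⟩

/-- Replaying chunks of the proof. -/
theorem Base.extend (B : Base R S gs code k d SL WL) {n n' : ℕ}
    (hn : ∀ m < n, FactTrue (subH R S) (lt R gs k) d m) {L : List ℕ}
    (h : checkAll d.F d.PL d.iv d.rl.get d.hw.get d.k L n = true) (he : n + total L = n') :
    ∀ m < n', FactTrue (subH R S) (lt R gs k) d m := by
  subst he
  exact all_sound B.hk B.hinv B.hrl B.hhwmem L n hn h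

theorem fact_start : ∀ m < 0, FactTrue (subH R S) (lt R gs k) d m := fun _ h => absurd h (Nat.not_lt_zero _)

variable {N : ℕ} [NeZero N] {t : ℕ → ℕ → ℕ} {A : ℕ → ℕ} {EF : ℕ → ℕ → ℕ} {M : ℕ} {tp ta : ℕ → ℕ}

theorem edgeFin_spec {A : ℕ → ℕ} {a i j src l tgt : ℕ} (h : edgeFin A a i j src l tgt = true) :
    src = A i ∧ l = a ∧ tgt = A j := by
  unfold edgeFin at h
  obtain ⟨h1, h2⟩ := brec_and h
  obtain ⟨h3, h4⟩ := brec_and h2
  exact ⟨beq_eq h1, beq_eq h3, beq_eq h4⟩

theorem edgeOK_sound {P : Type*} [Group P] {H : Subgroup P} {ℓ : ℕ → P} {d : D}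
    (hiv : ∀ a, ℓ (d.iv a) = (ℓ a)⁻¹) {A : ℕ → ℕ} {M N : ℕ} {t e : ℕ → ℕ} {a i : ℕ}
    (hfacts : ∀ m < M, FactTrue H ℓ d m) (h : edgeOK d.F d.iv A M N t e a i = true) :
    Rel H (rep ℓ d (A i) * ℓ a) (rep ℓ d (A (t i))) ∧ t i < N := by
  unfold edgeOK edgeAux at h
  obtain ⟨h1, h2⟩ := brec_and h
  obtain ⟨h3, h4⟩ := brec_and h2
  refine ⟨?_, Nat.lt_of_succ_le (Nat.le_of_ble_eq_true h3)⟩
  have h5 := hfacts _ (Nat.lt_of_succ_le (Nat.le_of_ble_eq_true h1))
  unfold FactTrue at h5
  rcases brec_cases h4 with ⟨-, h6⟩ | ⟨-, h6⟩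
  · obtain ⟨e1, e2, e3⟩ := edgeFin_spec h6
    rw [← e1, ← e2, ← e3]
    exact h5
  · obtain ⟨e1, e2, e3⟩ := edgeFin_spec h6
    rw [← e1, ← e2, ← e3]
    exact flip_true hiv h5

theorem treeAt_spec {t : ℕ → ℕ → ℕ} {tp ta : ℕ → ℕ} {k i : ℕ} (h : treeAt t tp ta k i = true)
    (hi : i ≠ 0) : tp i < i ∧ ta i < k ∧ t (ta i) (tp i) = i := by
  unfold treeAt at h
  rcases brec_cases h with ⟨h1, -⟩ | ⟨-, h1⟩
  · exact absurd (beq_eq h1) hi
  · obtain ⟨h2, h3⟩ := brec_and h1
    obtain ⟨h4, h5⟩ := brec_and h3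
    exact ⟨Nat.lt_of_succ_le (Nat.le_of_ble_eq_true h2), Nat.lt_of_succ_le (Nat.le_of_ble_eq_true h4),
      beq_eq h5⟩

/-- Everything together. -/
theorem Base.tableOK (B : Base R S gs code k d SL WL)
    (hfacts : ∀ m < M, FactTrue (subH R S) (lt R gs k) d m)
    {WLc : List (List ℕ)} {L : List (ℕ → Bool)}
    (hL : L = WLc.map (fun W i => Nat.beq (walk t i W) i) ++
      ((List.range k).map fun a i => edgeOK d.F d.iv A M N (t a) (EF a) a i) ++ [treeAt t tp ta k])
    (hP : ∀ i < N, allAt L i = true)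
    (hsub : ∀ W ∈ WL, W ∈ WLc) (hivw : ∀ a < k, [a, d.iv a] ∈ WLc)
    (hA0 : A 0 = 0)
    (hfix : ∀ W ∈ d.hw.words, walk t 0 W = 0) :
    ∃ act : PresentedGroup R →* (Equiv.Perm (Fin N))ᵐᵒᵖ,
      TableOK (subH R S) (lt R gs k) t k N (fun i => rep (lt R gs k) d (A i)) act tp ta ∧
      ∀ (r : FreeGroup α) (i : Fin N), (ract act (PresentedGroup.mk R r) i : ℕ) = walk t i (letters code r) := by
  have hN : 0 < N := NeZero.pos N
  have hw : ∀ W ∈ WLc, ∀ i < N, walk t i W = i := by
    intro W hW i hi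
    have h1 := allAt_spec (hP i hi) (fun i => Nat.beq (walk t i W) i) (by
      rw [hL]
      exact List.mem_append_left _ (List.mem_append_left _ (List.mem_map_of_mem hW)))
    exact beq_eq h1
  have he : ∀ i < N, ∀ a < k, edgeOK d.F d.iv A M N (t a) (EF a) a i = true := by
    intro i hi a ha
    exact allAt_spec (hP i hi) (fun i => edgeOK d.F d.iv A M N (t a) (EF a) a i) (by
      rw [hL]
      exact List.mem_append_left _ (List.mem_append_right _
        (List.mem_map_of_mem (List.mem_range.2 ha))))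
  have htr : ∀ i < N, treeAt t tp ta k i = true := by
    intro i hi
    exact allAt_spec (hP i hi) (treeAt t tp ta k) (by
      rw [hL]
      exact List.mem_append_right _ (List.mem_singleton.2 rfl))
  have hedge0 : ∀ i a, i < N → a < k →
      Rel (subH R S) (rep (lt R gs k) d (A i) * lt R gs k a) (rep (lt R gs k) d (A (t a i))) ∧ t a i < N :=
    fun i a hi ha => edgeOK_sound B.hinv hfacts (he i hi a ha)
  have hle : ∀ x i, i < N → t (code x) i < N := fun x i hi => (hedge0 i _ hi (B.hcodek x)).2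
  have hinvT : ∀ i < N, ∀ a < k, t (d.iv a) (t a i) = i := by
    intro i hi a ha
    exact hw _ (hivw a ha) i hi
  have hinvT' : ∀ (x : α × Bool) i, i < N → t (code (x.1, !x.2)) (t (code x) i) = i := by
    intro x i hi
    rw [B.hflip x]
    exact hinvT i hi _ (B.hcodek x)
  obtain ⟨act, hact⟩ := exists_act (R := R) (code := code) (N := N) (t := t) hle hinvT'
    (fun r hr i hi => hw _ (hsub _ (B.hRL r hr)) i hi)
  refine ⟨act, ?_, hact⟩
  have hltk : ∀ a, a < k → lt R gs k a = PresentedGroup.mk R (FreeGroup.mk [gs a]) := by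
    intro a ha
    simp [lt, ha]
  have hlet : ∀ a, a < k → letters code (FreeGroup.mk [gs a]) = [a] := by
    intro a ha
    unfold letters
    rw [FreeGroup.toWord_mk, FreeGroup.reduce_singleton]
    simp [B.hgs a ha]
  have hfix0 : ∀ h ∈ subH R S, ract act h ⟨0, hN⟩ = ⟨0, hN⟩ := by
    rintro _ ⟨x, hx, rfl⟩
    induction hx using Subgroup.closure_induction with
    | mem s hs =>
      apply Fin.ext
      have h1 := hact s ⟨0, hN⟩
      simp only at h1 ⊢
      rw [h1]
      apply hfix
      rw [B.hhw]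
      exact List.mem_map_of_mem ((B.hS s).1 hs)
    | one => simp [ract_one]
    | mul a b _ _ ha hb =>
      rw [map_mul, ract_mul, ha, hb]
    | inv a _ ha =>
      have h1 := ract_inv (act := act) (PresentedGroup.mk R a) ⟨0, hN⟩
      rw [ha] at h1
      rw [map_inv]
      exact h1
  refine ⟨?_, ?_, ?_, ?_, ?_, hfix0, ?_⟩
  · show rep (lt R gs k) d (A 0) = 1
    rw [hA0, rep_zero]
  · exact hedge0
  · intro a ha
    refine ⟨d.iv a, ?_, B.hinv a⟩
    have h0 := B.hflip (gs a)
    rw [B.hgs a ha] at h0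
    rw [← h0]
    exact B.hcodek _
  · rw [eq_top_iff, ← PresentedGroup.closure_range_of]
    apply Subgroup.closure_mono
    rintro _ ⟨g, rfl⟩
    refine ⟨code (g, true), B.hcodek _, ?_⟩
    rw [B.hcode]
    rfl
  · intro a ha i
    rw [hltk a ha, hact, hlet a ha]
    rfl
  · intro i hi hi0
    exact treeAt_spec (htr i hi) hi0

/-- Breadth first search on the table. -/
def bfsOK (t : ℕ → ℕ → ℕ) (hw : List (List ℕ)) (N : ℕ) : ℕ → ℕ → ℕ → Option ℕ
  | 0, V, _ => some V
  | c + 1, V, s =>
    let p := s % 1048576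
    let w := (s >>> 20) % 16
    let q := walk t p (hw.getD w [])
    bif V.testBit p && Nat.blt p N && Nat.blt q N then bfsOK t hw N c (V ||| 2 ^ q) (s >>> 24) else none

/-- A set closed under the words. -/
def closedOK (t : ℕ → ℕ → ℕ) (hw : List (List ℕ)) (N V : ℕ) : Bool :=
  (List.range N).all fun i => !V.testBit i || hw.all fun W => V.testBit (walk t i W)

theorem TableOK.orbit_card {ℓ' : ℕ → PresentedGroup R} {r : ℕ → PresentedGroup R}
    {act : PresentedGroup R →* (Equiv.Perm (Fin N))ᵐᵒᵖ}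
    (S' : TableOK (subH R S) ℓ' t k N r act tp ta)
    (hact : ∀ (r : FreeGroup α) (i : Fin N), (ract act (PresentedGroup.mk R r) i : ℕ) = walk t i (letters code r))
    (hS : ∀ s, s ∈ S ↔ s ∈ SL) {hw : List (List ℕ)} (hhw : hw = SL.map (letters code))
    {j : ℕ} (hj : j < N) {V c s m : ℕ}
    (hb : bfsOK t hw N c (2 ^ j) s = some V)
    (hc : closedOK t hw N V = true)
    (hm : ((List.range N).filter (fun i => V.testBit i)).length = m) :
    MulAction.orbit (subH R S) (lc (subH R S) r j) = (fun i => lc (subH R S) r i) '' {i | i < N ∧ V.testBit i = true} ∧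
    (MulAction.orbit (subH R S) (lc (subH R S) r j)).ncard = m := by
  have hN : 0 < N := NeZero.pos N
  -- reachability
  have hreach : ∀ (c V₀ s V₁ : ℕ), (∀ i, V₀.testBit i = true → ∃ hi : i < N, ∃ h ∈ subH R S,
      ract act h ⟨j, hj⟩ = ⟨i, hi⟩) → bfsOK t hw N c V₀ s = some V₁ →
      ∀ i, V₁.testBit i = true → ∃ hi : i < N, ∃ h ∈ subH R S, ract act h ⟨j, hj⟩ = ⟨i, hi⟩ := by
    intro c
    induction c with
    | zero =>
      intro V₀ s V₁ h0 h1
      simp only [bfsOK, Option.some.injEq] at h1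
      subst h1
      exact h0
    | succ c ih =>
      intro V₀ s V₁ h0 h1
      simp only [bfsOK] at h1
      cases hcond : (V₀.testBit (s % 1048576) && Nat.blt (s % 1048576) N &&
          Nat.blt (walk t (s % 1048576) (hw.getD ((s >>> 20) % 16) [])) N) with
      | false => rw [hcond] at h1; simp at h1
      | true =>
        rw [hcond] at h1
        simp only [cond_true] at h1
        simp only [Bool.and_eq_true, Nat.blt_eq] at hcond
        obtain ⟨⟨hp, hpN⟩, hqN⟩ := hcond
        refine ih _ _ _ ?_ h1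
        intro i hi
        rw [Nat.testBit_or, Bool.or_eq_true] at hi
        rcases hi with hi | hi
        · exact h0 i hi
        · rw [Nat.testBit_two_pow] at hi
          have hi' : walk t (s % 1048576) (hw.getD ((s >>> 20) % 16) []) = i := by simpa using hi
          subst hi'
          refine ⟨hqN, ?_⟩
          obtain ⟨hp1, h, hh, he⟩ := h0 _ hp
          have hcase : (∃ x ∈ SL, hw.getD ((s >>> 20) % 16) [] = letters code x) ∨
              hw.getD ((s >>> 20) % 16) [] = [] := by
            by_cases hlt : (s >>> 20) % 16 < hw.length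
            · left
              rw [List.getD_eq_getElem _ _ hlt]
              have hm : hw[(s >>> 20) % 16] ∈ hw := List.getElem_mem hlt
              have hm2 : hw[(s >>> 20) % 16] ∈ SL.map (letters code) := by
                rw [← hhw]; exact hm
              obtain ⟨x, hx, hxe⟩ := List.mem_map.1 hm2
              exact ⟨x, hx, hxe.symm⟩
            · right
              exact List.getD_eq_default _ _ (by omega)
          generalize hw.getD ((s >>> 20) % 16) [] = W at hqN hcase ⊢
          rcases hcase with ⟨x, hx, rfl⟩ | rfl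
          · refine ⟨h * PresentedGroup.mk R x, (subH R S).mul_mem hh ⟨x, Subgroup.subset_closure ((hS x).2 hx), rfl⟩, ?_⟩
            rw [ract_mul, he]
            apply Fin.ext
            exact hact x _
          · refine ⟨h, hh, ?_⟩
            rw [he]
            rfl
  have hj0 : ∀ i, (2 ^ j).testBit i = true → ∃ hi : i < N, ∃ h ∈ subH R S, ract act h ⟨j, hj⟩ = ⟨i, hi⟩ := by
    intro i hi
    rw [Nat.testBit_two_pow] at hi
    have : j = i := by simpa using hi
    subst this
    exact ⟨hj, 1, (subH R S).one_mem, ract_one _⟩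
  have hR := hreach c _ s V hj0 hb
  -- the start is in `V`
  have hstart : ∀ (c V₀ s V₁ : ℕ), V₀.testBit j = true → bfsOK t hw N c V₀ s = some V₁ → V₁.testBit j = true := by
    intro c
    induction c with
    | zero =>
      intro V₀ s V₁ h0 h1
      simp only [bfsOK, Option.some.injEq] at h1
      subst h1
      exact h0
    | succ c ih =>
      intro V₀ s V₁ h0 h1
      simp only [bfsOK] at h1
      cases hcond : (V₀.testBit (s % 1048576) && Nat.blt (s % 1048576) N &&
          Nat.blt (walk t (s % 1048576) (hw.getD ((s >>> 20) % 16) [])) N) with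
      | false => rw [hcond] at h1; simp at h1
      | true =>
        rw [hcond] at h1
        simp only [cond_true] at h1
        refine ih _ _ _ ?_ h1
        rw [Nat.testBit_or, h0]
        simp
  have hVj : V.testBit j = true := hstart c _ s V (by simp [Nat.testBit_two_pow]) hb
  -- closedness
  simp only [closedOK, List.all_eq_true, List.mem_range, Bool.or_eq_true, Bool.not_eq_true'] at hc
  have hcl1 : ∀ x ∈ SL, ∀ i : Fin N, V.testBit i = true → V.testBit (ract act (PresentedGroup.mk R x) i) = true := by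
    intro x hx i hi
    rw [hact x i]
    rcases hc i i.2 with h | h
    · rw [h] at hi; exact absurd hi (by simp)
    · exact h _ (by rw [hhw]; exact List.mem_map_of_mem hx)
  have hcl : ∀ h ∈ subH R S, ∀ i : Fin N, V.testBit i = true → V.testBit (ract act h i) = true := by
    rintro _ ⟨x, hx, rfl⟩
    induction hx using Subgroup.closure_induction with
    | mem s hs => exact hcl1 s ((hS s).1 hs)
    | one => intro i hi; simpa [ract_one] using hi
    | mul a b _ _ ha hb =>
      intro i hi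
      rw [map_mul, ract_mul]
      exact hb _ (ha _ hi)
    | inv a _ ha =>
      intro i hi
      -- the inverse is a power in a finite group
      have hpow : ∀ n : ℕ, ∀ i : Fin N, V.testBit i = true →
          V.testBit (ract act ((PresentedGroup.mk R a) ^ n) i) = true := by
        intro n
        induction n with
        | zero => intro i hi; simpa [ract_one] using hi
        | succ n ih =>
          intro i hi
          rw [pow_succ, ract_mul]
          exact ha _ (ih _ hi)
      have h1 : ract act ((PresentedGroup.mk R a)⁻¹) i =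
          ract act ((PresentedGroup.mk R a) ^ (orderOf (act (PresentedGroup.mk R a)) - 1)) i := by
        haveI : Finite (Equiv.Perm (Fin N))ᵐᵒᵖ := Finite.of_equiv _ MulOpposite.opEquiv
        have hord : 0 < orderOf (act (PresentedGroup.mk R a)) := orderOf_pos _
        have h2 : act ((PresentedGroup.mk R a) ^ (orderOf (act (PresentedGroup.mk R a)) - 1) * PresentedGroup.mk R a) = 1 := by
          rw [← pow_succ, map_pow, Nat.sub_add_cancel hord, pow_orderOf_eq_one]
        have h3 : act ((PresentedGroup.mk R a)⁻¹) =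
            act ((PresentedGroup.mk R a) ^ (orderOf (act (PresentedGroup.mk R a)) - 1)) := by
          rw [map_inv]
          rw [map_mul] at h2
          exact (eq_inv_of_mul_eq_one_left h2).symm
        unfold ract
        rw [h3]
      rw [map_inv, h1]
      exact hpow _ _ hi
  have hreach2 : ∀ i : Fin N, V.testBit i = true → ∃ h ∈ subH R S, ract act h ⟨j, hj⟩ = i := by
    intro i hi
    obtain ⟨_, h, hh, he⟩ := hR i hi
    exact ⟨h, hh, he⟩
  have h1 := S'.orbit_eq (V := fun i => V.testBit i = true) hj hVj hcl hreach2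
  have h2 := S'.orbit_ncard (V := fun i => V.testBit i = true) hj hVj hcl hreach2
  refine ⟨h1, ?_⟩
  rw [h2, ← hm]
  have e : {i | i < N ∧ V.testBit i = true} = ↑((Finset.range N).filter (fun i => V.testBit i = true)) := by
    ext i
    simp
  rw [e, Set.ncard_coe_finset]
  have e2 : (Finset.range N).filter (fun i => V.testBit i = true) =
      ((List.range N).filter (fun i => V.testBit i)).toFinset := by
    ext i
    simp
  rw [e2, List.toFinset_card_of_nodup (List.nodup_range.filter _)]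

end Main

section Cox

open Cfsg.Spor

variable {α : Type} [DecidableEq α]

/-- The relators of a Coxeter presentation as a list. -/
def coxList (edges : List (α × ℕ × α)) (extra : List (FreeGroup α)) : List (FreeGroup α) :=
  ((coxNodes edges).flatMap fun x => (coxNodes edges).map fun y =>
    (FreeGroup.of x * FreeGroup.of y) ^ coxLabel edges x y) ++ extra

theorem mem_coxList {edges : List (α × ℕ × α)} {extra : List (FreeGroup α)} {r : FreeGroup α} :
    r ∈ coxList edges extra ↔ r ∈ coxRelators edges ∪ {r | r ∈ extra} := by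
  simp only [coxList, List.mem_append, List.mem_flatMap, List.mem_map, coxRelators, Set.mem_union,
    Set.mem_setOf_eq]
  constructor
  · rintro (⟨x, hx, y, hy, rfl⟩ | h)
    · exact Or.inl ⟨x, hx, y, hy, rfl⟩
    · exact Or.inr h
  · rintro (⟨x, hx, y, hy, rfl⟩ | h)
    · exact Or.inl ⟨x, hx, y, hy, rfl⟩
    · exact Or.inr h

variable {edges : List (α × ℕ × α)} {extra : List (FreeGroup α)}
  {gs : ℕ → α × Bool} {code : α × Bool → ℕ} {k : ℕ}

theorem node_inv {g : α} (hg : g ∈ coxNodes edges) :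
    (PresentedGroup.mk (coxRelators edges ∪ {r | r ∈ extra}) (FreeGroup.of g))⁻¹ =
      PresentedGroup.mk (coxRelators edges ∪ {r | r ∈ extra}) (FreeGroup.of g) := by
  have h1 : (FreeGroup.of g * FreeGroup.of g) ^ coxLabel edges g g ∈
      coxRelators edges ∪ {r | r ∈ extra} := Or.inl ⟨g, hg, g, hg, rfl⟩
  have h2 : coxLabel edges g g = 1 := by simp [coxLabel]
  rw [h2, pow_one] at h1
  have h3 := PresentedGroup.mk_eq_one_iff.2 (Subgroup.subset_normalClosure h1)
  rw [map_mul] at h3
  exact (eq_inv_of_mul_eq_one_left h3).symm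

theorem hcode_of
    (h : ∀ x : α × Bool, code x < k ∧ (gs (code x) = x ∨ (x.1 ∈ coxNodes edges ∧ gs (code x) = (x.1, !x.2))))
    (x : α × Bool) :
    lt (coxRelators edges ∪ {r | r ∈ extra}) gs k (code x) =
      PresentedGroup.mk (coxRelators edges ∪ {r | r ∈ extra}) (FreeGroup.mk [x]) := by
  obtain ⟨h1, h2⟩ := h x
  simp only [lt, h1, if_true]
  rcases h2 with h2 | ⟨hn, h2⟩
  · rw [h2]
  · rw [h2]
    obtain ⟨g, b⟩ := x
    have e1 : FreeGroup.mk [(g, true)] = FreeGroup.of g := rfl
    have e2 : FreeGroup.mk [(g, false)] = (FreeGroup.of g)⁻¹ := rfl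
    cases b with
    | true =>
      show PresentedGroup.mk _ (FreeGroup.mk [(g, false)]) = PresentedGroup.mk _ (FreeGroup.mk [(g, true)])
      rw [e1, e2, map_inv, node_inv hn]
    | false =>
      show PresentedGroup.mk _ (FreeGroup.mk [(g, true)]) = PresentedGroup.mk _ (FreeGroup.mk [(g, false)])
      rw [e1, e2, map_inv, node_inv hn]

/-- The structure `Base` for a Coxeter presentation, from checks. -/
theorem base_of {S : Set (FreeGroup α)} {d : D} {SL : List (FreeGroup α)} {WL : List (List ℕ)}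
    (h : ∀ x : α × Bool, code x < k ∧ (gs (code x) = x ∨ (x.1 ∈ coxNodes edges ∧ gs (code x) = (x.1, !x.2))))
    (hgs : ∀ a, a < k → code (gs a) = a)
    (hdk : d.k = k)
    (hflip : ∀ x : α × Bool, code (x.1, !x.2) = d.iv (code x))
    (hivk : ∀ a, k ≤ a → k ≤ d.iv a)
    (hS : ∀ s, s ∈ S ↔ s ∈ SL)
    (hW1 : ((coxList edges extra).map (letters code)).all (fun w => decide (w ∈ WL)) = true)
    (hW2 : WL.all (fun w => decide (w ∈ (coxList edges extra).map (letters code))) = true)
    (hder : ∀ W ∈ d.rl.words, derivedOK d.iv WL W = true)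
    (hhw : d.hw.words = SL.map (letters code)) :
    Base (coxRelators edges ∪ {r | r ∈ extra}) S gs code k d SL WL where
  hcode := hcode_of h
  hcodek := fun x => (h x).1
  hgs := hgs
  hdk := hdk
  hflip := hflip
  hivk := hivk
  hS := hS
  hRL := by
    intro r hr
    rw [List.all_eq_true] at hW1
    have := hW1 _ (List.mem_map_of_mem (mem_coxList.2 hr))
    simpa using this
  hWL := by
    intro B hB
    rw [List.all_eq_true] at hW2
    have := hW2 _ hB
    rw [decide_eq_true_eq, List.mem_map] at this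
    obtain ⟨r, hr, rfl⟩ := this
    exact ⟨r, mem_coxList.1 hr, rfl⟩
  hder := hder
  hhw := hhw

end Cox

end

end Cfsg.Agent.H16.CosetEnum
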