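import Mathlib

/-!
Finite commutative domains as fields: ring endomorphisms are Frobenius powers, and the subring
of an endomorphism ring generated by one irreducibly acting operator.
-/

set_option autoImplicit false
set_option linter.style.haveILetI false

namespace Cfsg.Agent.H16

/-- A ring endomorphism of a finite commutative domain of characteristic `p` is a power of
Frobenius. -/
theorem domain_hom_pow {R : Type*} [CommRing R] [IsDomain R] [Finite R] (p : ℕ) [Fact p.Prime]
    [CharP R p] (σ : R →+* R) : ∃ i : ℕ, ∀ x, σ x = x ^ p ^ i := by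
  classical
  haveI := Fintype.ofFinite R
  letI : Field R := Fintype.fieldOfDomain R
  letI : Algebra (ZMod p) R := ZMod.algebra R p
  have hbij : Function.Bijective σ := Finite.injective_iff_bijective.1 σ.injective
  let g0 : R →ₐ[ZMod p] R :=
    { σ with
      commutes' := fun r => by
        have h : σ.comp (algebraMap (ZMod p) R) = algebraMap (ZMod p) R :=
          Subsingleton.elim _ _
        exact congrArg (fun f : ZMod p →+* R => f r) h }
  let g : R ≃ₐ[ZMod p] R := AlgEquiv.ofBijective g0 hbij
  obtain ⟨i, hi⟩ := FiniteField.exists_forall_apply_eq_pow (ZMod p) p R g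
  refine ⟨i, fun x => ?_⟩
  have h := hi x
  rw [Nat.card_zmod] at h
  exact h

/-- A finite commutative domain in which `r ^ n = r` for all `r` has at most `n` elements. -/
theorem card_le_of_pow_eq {R : Type*} [CommRing R] [IsDomain R] [Finite R] {n : ℕ} (hn : 2 ≤ n)
    (h : ∀ r : R, r ^ n = r) : Nat.card R ≤ n := by
  classical
  haveI := Fintype.ofFinite R
  let f : Polynomial R := Polynomial.X ^ n - Polynomial.X
  have hlt : (Polynomial.X : Polynomial R).degree < (Polynomial.X ^ n : Polynomial R).degree := by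
    rw [Polynomial.degree_X, Polynomial.degree_X_pow]
    exact_mod_cast (by omega : 1 < n)
  have hd : f.degree = n := by
    rw [Polynomial.degree_sub_eq_left_of_degree_lt hlt, Polynomial.degree_X_pow]
  have hne : f ≠ 0 := by
    intro h0
    rw [h0, Polynomial.degree_zero] at hd
    simp at hd
  have hnat : f.natDegree = n := Polynomial.natDegree_eq_of_degree_eq_some hd
  have hsub : (Finset.univ : Finset R).val ⊆ f.roots := by
    intro x _
    rw [Polynomial.mem_roots hne, Polynomial.IsRoot.def]
    simp [f, h x]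
  have := Polynomial.card_le_degree_of_subset_roots hsub
  rw [hnat] at this
  rw [Nat.card_eq_fintype_card]
  exact this

/-- Conjugation by a unit as a ring homomorphism. -/
def conjRingHom {A : Type*} [Ring A] (ψ ψ' : A) (h1 : ψ * ψ' = 1) (h2 : ψ' * ψ = 1) : A →+* A where
  toFun := fun r => ψ * r * ψ'
  map_one' := by rw [mul_one, h1]
  map_mul' := fun a b => by
    calc ψ * (a * b) * ψ' = ψ * (a * ((ψ' * ψ) * b)) * ψ' := by rw [h2, one_mul]
      _ = ψ * a * ψ' * (ψ * b * ψ') := by simp only [mul_assoc]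
  map_zero' := by simp
  map_add' := fun a b => by rw [mul_add, add_mul]

theorem conjRingHom_mem {A : Type*} [Ring A] (τ ψ ψ' : A) (h1 : ψ * ψ' = 1) (h2 : ψ' * ψ = 1) (k : ℕ)
    (hk : ψ * τ * ψ' = τ ^ k) : ∀ r ∈ Subring.closure ({τ} : Set A),
      conjRingHom ψ ψ' h1 h2 r ∈ Subring.closure ({τ} : Set A) := by
  intro r hr
  have h : (Subring.closure ({τ} : Set A)).map (conjRingHom ψ ψ' h1 h2) ≤ Subring.closure ({τ} : Set A) := by
    rw [RingHom.map_closure, Subring.closure_le]
    rintro _ ⟨x, hx, rfl⟩
    rw [Set.mem_singleton_iff] at hx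
    subst hx
    have : conjRingHom ψ ψ' h1 h2 x = x ^ k := hk
    rw [this]
    exact pow_mem (Subring.subset_closure (Set.mem_singleton x)) k
  exact h ⟨r, hr, rfl⟩

section Op

variable {V : Type*} [AddCommGroup V]

theorem op_comm (τ : AddMonoid.End V) :
    ∀ x ∈ ({τ} : Set (AddMonoid.End V)), ∀ y ∈ ({τ} : Set (AddMonoid.End V)), x * y = y * x := by
  rintro x rfl y rfl
  rfl

theorem op_central (τ : AddMonoid.End V) {r : AddMonoid.End V}
    (hr : r ∈ Subring.closure ({τ} : Set (AddMonoid.End V))) : r * τ = τ * r := by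
  induction hr using Subring.closure_induction with
  | mem x hx =>
    rw [Set.mem_singleton_iff] at hx
    rw [hx]
  | zero => simp
  | one => simp
  | add x y _ _ hx hy => rw [add_mul, mul_add, hx, hy]
  | neg x _ hx => rw [neg_mul, mul_neg, hx]
  | mul x y _ _ hx hy => rw [mul_assoc, hy, ← mul_assoc, hx, mul_assoc]

/-- Non-zero elements of the subring generated by an irreducible operator are injective. -/
theorem op_inj {τ : AddMonoid.End V}
    (hirr : ∀ U : AddSubgroup V, (∀ u ∈ U, τ u ∈ U) → U = ⊥ ∨ U = ⊤)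
    {r : AddMonoid.End V} (hr : r ∈ Subring.closure ({τ} : Set (AddMonoid.End V)))
    (hr0 : r ≠ 0) {w : V} (hw : r w = 0) : w = 0 := by
  let U : AddSubgroup V :=
    { carrier := {u | r u = 0}
      zero_mem' := map_zero r
      add_mem' := fun {a b} ha hb => by
        show r (a + b) = 0
        rw [map_add, show r a = 0 from ha, show r b = 0 from hb, add_zero]
      neg_mem' := fun {a} ha => by
        show r (-a) = 0
        rw [map_neg, show r a = 0 from ha, neg_zero] }
  have hker : U = ⊥ ∨ U = ⊤ := by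
    apply hirr
    intro u hu
    have h1 := congrArg (fun f : AddMonoid.End V => f u) (op_central τ hr)
    show r (τ u) = 0
    have h2 : r (τ u) = τ (r u) := h1
    rw [h2, show r u = 0 from hu, map_zero]
  rcases hker with h | h
  · have : w ∈ U := hw
    rw [h] at this
    simpa using this
  · exfalso
    apply hr0
    ext x
    have : x ∈ U := by rw [h]; trivial
    exact this

/-- A non-zero vector is cyclic for the subring generated by an irreducible operator. -/
theorem op_surj {τ : AddMonoid.End V}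
    (hirr : ∀ U : AddSubgroup V, (∀ u ∈ U, τ u ∈ U) → U = ⊥ ∨ U = ⊤)
    {v : V} (hv : v ≠ 0) (w : V) :
    ∃ r ∈ Subring.closure ({τ} : Set (AddMonoid.End V)), r v = w := by
  let R := Subring.closure ({τ} : Set (AddMonoid.End V))
  let U : AddSubgroup V :=
    { carrier := {u | ∃ r ∈ R, r v = u}
      zero_mem' := ⟨0, R.zero_mem, rfl⟩
      add_mem' := by
        rintro _ _ ⟨a, ha, rfl⟩ ⟨b, hb, rfl⟩
        exact ⟨a + b, R.add_mem ha hb, rfl⟩
      neg_mem' := by
        rintro _ ⟨a, ha, rfl⟩
        exact ⟨-a, R.neg_mem ha, rfl⟩ }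
  have hU : U = ⊥ ∨ U = ⊤ := by
    apply hirr
    rintro _ ⟨r, hr, rfl⟩
    exact ⟨τ * r, R.mul_mem (Subring.subset_closure rfl) hr, rfl⟩
  rcases hU with h | h
  · exfalso
    have : v ∈ U := ⟨1, R.one_mem, rfl⟩
    rw [h] at this
    exact hv (by simpa using this)
  · have : w ∈ U := by rw [h]; trivial
    exact this

variable [Finite V] [Nontrivial V]

instance op_nontrivial_end : Nontrivial (AddMonoid.End V) := by
  refine ⟨⟨0, 1, ?_⟩⟩
  intro h1
  obtain ⟨w, hw⟩ := exists_ne (0 : V)
  have h2 : (0 : V) = w := congrArg (fun f : AddMonoid.End V => f w) h1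
  exact hw h2.symm

theorem op_charP (p : ℕ) [Fact p.Prime] (hp0 : ∀ v : V, p • v = 0) (τ : AddMonoid.End V)
    [Nontrivial (Subring.closure ({τ} : Set (AddMonoid.End V)))] :
    CharP (Subring.closure ({τ} : Set (AddMonoid.End V))) p := by
  rw [CharP.charP_iff_prime_eq_zero (Fact.out : p.Prime)]
  apply Subtype.ext
  ext v
  simp [hp0 v]

theorem op_isDomain (τ : AddMonoid.End V)
    (hirr : ∀ U : AddSubgroup V, (∀ u ∈ U, τ u ∈ U) → U = ⊥ ∨ U = ⊤) :
    letI : CommRing (Subring.closure ({τ} : Set (AddMonoid.End V))) :=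
      Subring.closureCommRingOfComm (op_comm τ)
    IsDomain (Subring.closure ({τ} : Set (AddMonoid.End V))) := by
  letI : CommRing (Subring.closure ({τ} : Set (AddMonoid.End V))) :=
    Subring.closureCommRingOfComm (op_comm τ)
  haveI : NoZeroDivisors (Subring.closure ({τ} : Set (AddMonoid.End V))) := by
    refine ⟨?_⟩
    rintro ⟨x, hx⟩ ⟨y, hy⟩ hxy
    by_cases hx0 : x = 0
    · exact Or.inl (Subtype.ext hx0)
    · right
      apply Subtype.ext
      ext w
      exact op_inj hirr hx hx0 (congrArg (fun f : AddMonoid.End V => f w) (congrArg Subtype.val hxy))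
  exact NoZeroDivisors.to_isDomain _

theorem op_finite (τ : AddMonoid.End V) : Finite (Subring.closure ({τ} : Set (AddMonoid.End V))) := by
  haveI : Finite (AddMonoid.End V) :=
    Finite.of_injective (fun f : AddMonoid.End V => (f : V → V)) (fun a b h => DFunLike.coe_injective h)
  infer_instance

/-- If `τ` is irreducible and `τ ^ p ^ i = τ` then `V` has at most `p ^ i` elements. -/
theorem op_card_le (p : ℕ) [Fact p.Prime] (hp0 : ∀ v : V, p • v = 0) (τ : AddMonoid.End V)
    (hirr : ∀ U : AddSubgroup V, (∀ u ∈ U, τ u ∈ U) → U = ⊥ ∨ U = ⊤) (i : ℕ)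
    (hτ : τ ^ p ^ i = τ) (hi : 0 < i) : Nat.card V ≤ p ^ i := by
  classical
  letI : CommRing (Subring.closure ({τ} : Set (AddMonoid.End V))) :=
    Subring.closureCommRingOfComm (op_comm τ)
  haveI := op_isDomain τ hirr
  haveI := op_finite τ
  haveI := op_charP p hp0 τ
  have hp : p.Prime := Fact.out
  have hpow : ∀ r (hr : r ∈ Subring.closure ({τ} : Set (AddMonoid.End V))),
      (⟨r, hr⟩ : Subring.closure ({τ} : Set (AddMonoid.End V))) ^ p ^ i = ⟨r, hr⟩ := by
    intro r hr
    induction hr using Subring.closure_induction with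
    | mem x hx =>
      rw [Set.mem_singleton_iff] at hx
      subst hx
      apply Subtype.ext
      exact hτ
    | zero =>
      apply zero_pow
      exact (pow_pos hp.pos i).ne'
    | one => exact one_pow _
    | add x y hx hy ihx ihy =>
      have := add_pow_char_pow (R := Subring.closure ({τ} : Set (AddMonoid.End V))) (p := p) (n := i) ⟨x, hx⟩ ⟨y, hy⟩
      rw [ihx, ihy] at this
      exact this
    | neg x hx ih =>
      have := map_neg (iterateFrobenius (Subring.closure ({τ} : Set (AddMonoid.End V))) p i) ⟨x, hx⟩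
      rw [iterateFrobenius_def, iterateFrobenius_def, ih] at this
      exact this
    | mul x y hx hy ihx ihy =>
      have := mul_pow (⟨x, hx⟩ : Subring.closure ({τ} : Set (AddMonoid.End V))) ⟨y, hy⟩ (p ^ i)
      rw [ihx, ihy] at this
      exact this
  have h2 : 2 ≤ p ^ i := by
    calc 2 ≤ p := hp.two_le
      _ = p ^ 1 := (pow_one p).symm
      _ ≤ p ^ i := Nat.pow_le_pow_right hp.pos hi
  have hle := card_le_of_pow_eq (R := Subring.closure ({τ} : Set (AddMonoid.End V))) h2
    (fun r => hpow r.1 r.2)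
  obtain ⟨v, hv⟩ := exists_ne (0 : V)
  have hsurj : Function.Surjective
      (fun r : Subring.closure ({τ} : Set (AddMonoid.End V)) => (r : AddMonoid.End V) v) := by
    intro w
    obtain ⟨r, hr, h⟩ := op_surj hirr hv w
    exact ⟨⟨r, hr⟩, h⟩
  exact (Nat.card_le_card_of_surjective _ hsurj).trans hle

/-- If `ψ` conjugates the irreducible operator `τ` to its power `τ ^ k`, then this power is a power
of Frobenius. -/
theorem op_conj_pow (p : ℕ) [Fact p.Prime] (hp0 : ∀ v : V, p • v = 0) (τ : AddMonoid.End V)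
    (hirr : ∀ U : AddSubgroup V, (∀ u ∈ U, τ u ∈ U) → U = ⊥ ∨ U = ⊤)
    (ψ ψ' : AddMonoid.End V) (h1 : ψ * ψ' = 1) (h2 : ψ' * ψ = 1) (k : ℕ)
    (hk : ψ * τ * ψ' = τ ^ k) : ∃ i : ℕ, τ ^ k = τ ^ p ^ i := by
  classical
  letI : CommRing (Subring.closure ({τ} : Set (AddMonoid.End V))) :=
    Subring.closureCommRingOfComm (op_comm τ)
  haveI := op_isDomain τ hirr
  haveI := op_finite τ
  haveI := op_charP p hp0 τ
  let c : AddMonoid.End V →+* AddMonoid.End V := conjRingHom ψ ψ' h1 h2
  have hmem := conjRingHom_mem τ ψ ψ' h1 h2 k hk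
  let σ : Subring.closure ({τ} : Set (AddMonoid.End V)) →+*
      Subring.closure ({τ} : Set (AddMonoid.End V)) :=
    { toFun := fun r => ⟨c r.1, hmem r.1 r.2⟩
      map_one' := Subtype.ext (map_one c)
      map_mul' := fun a b => Subtype.ext (map_mul c a.1 b.1)
      map_zero' := Subtype.ext (map_zero c)
      map_add' := fun a b => Subtype.ext (map_add c a.1 b.1) }
  obtain ⟨i, hi⟩ := domain_hom_pow p σ
  refine ⟨i, ?_⟩
  have h3 := congrArg Subtype.val (hi ⟨τ, Subring.subset_closure rfl⟩)
  have h4 : (σ ⟨τ, Subring.subset_closure rfl⟩ : Subring.closure ({τ} : Set (AddMonoid.End V))).1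
      = τ ^ k := hk
  rw [h4] at h3
  exact h3

end Op

end Cfsg.Agent.H16
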