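import Cfsg.Agent.Lib.H16.CentCore

set_option autoImplicit false
set_option linter.style.haveILetI false

namespace Cfsg.Agent.H16

open MulAction

section LemmaA

variable {G Ω : Type*} [Group G] [Finite G] [MulAction G Ω]

omit [MulAction G Ω] in
theorem norm_of_conj_le {Q : Subgroup G} {u : G} (h : ∀ x ∈ Q, u * x * u⁻¹ ∈ Q) :
    u ∈ Subgroup.normalizer (Q : Set G) := by
  apply mem_normalizer_of_cj_eq
  apply Subgroup.eq_of_le_of_card_ge
  · rintro _ ⟨x, hx, rfl⟩
    exact h x hx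
  · rw [card_cj]

/-- **Lemma A**: two commuting regular subgroups swapped or normalised by the point stabilizer
cannot occur in an extremely primitive situation. -/
theorem lemmaA (α : Ω) (T C : Subgroup G)
    (hTreg : ∀ t ∈ T, t • α = α → t = 1)
    (hCtr : ∀ ω : Ω, ∃ c ∈ C, c • α = ω)
    (hcomm : ∀ t ∈ T, ∀ c ∈ C, t * c = c * t)
    [hsimple : IsSimpleGroup T] (hnc : ¬ ∀ a ∈ T, ∀ b ∈ T, a * b = b * a)
    (hact : ∀ h : G, h • α = α → (cj h T = T ∧ cj h C = C) ∨ (cj h T = C ∧ cj h C = T))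
    (hcoat : ∀ β, β ≠ α → ∀ K : Subgroup G, stabilizer G α ⊓ stabilizer G β ≤ K →
      K ≤ stabilizer G α → K = stabilizer G α ⊓ stabilizer G β ∨ K = stabilizer G α)
    (hprop : ∀ β, β ≠ α → ¬ stabilizer G α ≤ stabilizer G β) : False := by
  have hTeq : ∀ a ∈ T, ∀ b ∈ T, a • α = b • α → a = b := fun a ha b hb h =>
    eq_of_smul_base (N := T) (α := α) hTreg ha hb h
  have key : ∀ s ∈ T, ∀ c ∈ C, (s * c) • α = α → ∀ t ∈ T, (s * c) • (t • α) = (s * t * s⁻¹) • α := by
    intro s _ c hc hsc t ht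
    have h1 : c • α = s⁻¹ • α := by
      rw [eq_inv_smul_iff, ← mul_smul]
      exact hsc
    rw [mul_smul s c, ← mul_smul c t, ← hcomm t ht c hc, mul_smul t c, h1]
    simp [mul_smul]
  have keyiff : ∀ s ∈ T, ∀ c ∈ C, (s * c) • α = α → ∀ t ∈ T,
      ((s * c) • (t • α) = t • α ↔ s * t = t * s) := by
    intro s hs c hc hsc t ht
    rw [key s hs c hc hsc t ht]
    constructor
    · intro h
      have h2 := hTeq _ (T.mul_mem (T.mul_mem hs ht) (T.inv_mem hs)) _ ht h
      calc s * t = (s * t * s⁻¹) * s := by group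
        _ = t * s := by rw [h2]
    · intro h
      rw [h]
      simp
  have hexc : ∀ s ∈ T, ∃ c ∈ C, (s * c) • α = α := by
    intro s _
    obtain ⟨c, hc, hc'⟩ := hCtr (s⁻¹ • α)
    refine ⟨c, hc, ?_⟩
    rw [mul_smul, hc', smul_inv_smul]
  have hconjform : ∀ s ∈ T, ∀ c ∈ C, ∀ u ∈ T, ∀ c' ∈ C,
      (s * c) * (u * c') * (s * c)⁻¹ = (s * u * s⁻¹) * (c * c' * c⁻¹) := by
    intro s hs c hc u hu c' hc'
    have e1 : c * u = u * c := (hcomm u hu c hc).symm
    have e2 : (c * c' * c⁻¹) * s⁻¹ = s⁻¹ * (c * c' * c⁻¹) :=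
      (hcomm s⁻¹ (T.inv_mem hs) _ (C.mul_mem (C.mul_mem hc hc') (C.inv_mem hc))).symm
    calc (s * c) * (u * c') * (s * c)⁻¹ = s * (c * u) * c' * c⁻¹ * s⁻¹ := by group
      _ = s * (u * c) * c' * c⁻¹ * s⁻¹ := by rw [e1]
      _ = s * u * ((c * c' * c⁻¹) * s⁻¹) := by group
      _ = s * u * (s⁻¹ * (c * c' * c⁻¹)) := by rw [e2]
      _ = s * u * s⁻¹ * (c * c' * c⁻¹) := by group
  have hfixpow : ∀ t ∈ T, ∀ j : ℕ, ∀ h : G, h • α = α → h • (t • α) = t • α →
      h • (t ^ j • α) = t ^ j • α := by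
    intro t ht j h hh hht
    rcases hact h hh with ⟨h1, -⟩ | ⟨h1, -⟩
    · have h2 : h * t * h⁻¹ ∈ T := h1 ▸ conj_mem_cj ht
      have h3 : (h * t * h⁻¹) • α = t • α := by
        rw [mul_smul, mul_smul, inv_smul_eq_iff.2 hh.symm, hht]
      have h4 : h * t * h⁻¹ = t := hTeq _ h2 _ ht h3
      have h5 : h * t ^ j * h⁻¹ = t ^ j := by rw [← conj_pow, h4]
      calc h • (t ^ j • α) = (h * t ^ j * h⁻¹) • (h • α) := by simp [mul_smul]
        _ = t ^ j • α := by rw [h5, hh]
    · have hc : h * t * h⁻¹ ∈ C := h1 ▸ conj_mem_cj ht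
      set c := h * t * h⁻¹ with hcdef
      have h3 : c • α = t • α := by
        rw [hcdef, mul_smul, mul_smul, inv_smul_eq_iff.2 hh.symm, hht]
      have hct : Commute c t := (hcomm t ht c hc).symm
      have h4 : ∀ j : ℕ, c ^ j • α = t ^ j • α := by
        intro j
        induction j with
        | zero => simp
        | succ j ih =>
          rw [pow_succ, mul_smul, h3, ← mul_smul, (hct.pow_left j).eq, mul_smul, ih, ← mul_smul,
            ← pow_succ']
      have h5 : h * t ^ j * h⁻¹ = c ^ j := by rw [← conj_pow]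
      calc h • (t ^ j • α) = (h * t ^ j * h⁻¹) • (h • α) := by simp [mul_smul]
        _ = t ^ j • α := by rw [h5, hh, h4]
  -- first property
  have hpowG : ∀ t ∈ T, ∀ j : ℕ, t ^ j ≠ 1 → ∀ s ∈ T, s * t ^ j = t ^ j * s → s * t = t * s := by
    intro t ht j htj s hs hst
    have hβ' : t ^ j • α ≠ α := fun h => htj (hTreg _ (T.pow_mem ht j) h)
    have hβ : t • α ≠ α := by
      intro h
      apply htj
      rw [hTreg t ht h, one_pow]
    have hle : stabilizer G α ⊓ stabilizer G (t • α) ≤ stabilizer G α ⊓ stabilizer G (t ^ j • α) := by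
      intro h hh
      have hh' := Subgroup.mem_inf.1 hh
      exact Subgroup.mem_inf.2 ⟨hh'.1, hfixpow t ht j h hh'.1 hh'.2⟩
    rcases hcoat _ hβ _ hle inf_le_left with h1 | h1
    · obtain ⟨c, hc, hsc⟩ := hexc s hs
      have h2 : s * c ∈ stabilizer G α ⊓ stabilizer G (t ^ j • α) :=
        Subgroup.mem_inf.2 ⟨hsc, (keyiff s hs c hc hsc _ (T.pow_mem ht j)).2 hst⟩
      rw [h1] at h2
      exact (keyiff s hs c hc hsc t ht).1 (Subgroup.mem_inf.1 h2).2
    · exfalso
      apply hprop _ hβ'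
      rw [← h1]
      exact inf_le_right
  -- second property
  have hnrmG : ∀ t ∈ T, t ≠ 1 → ∀ s ∈ T,
      (∀ u ∈ T, u * t = t * u → (s * u * s⁻¹) * t = t * (s * u * s⁻¹)) → s * t = t * s := by
    intro t ht ht1 s hs hnorm
    have hβ : t • α ≠ α := fun h => ht1 (hTreg t ht h)
    set β := t • α with hβdef
    let Q : Subgroup G :=
      { carrier := {q | q • α = α ∧ q • β = β ∧ ∃ u ∈ T, ∃ c ∈ C, q = u * c}
        one_mem' := ⟨one_smul _ _, one_smul _ _, 1, T.one_mem, 1, C.one_mem, by simp⟩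
        mul_mem' := by
          rintro a b ⟨ha1, ha2, u, hu, c, hc, rfl⟩ ⟨hb1, hb2, u', hu', c', hc', rfl⟩
          refine ⟨by rw [mul_smul, hb1, ha1], by rw [mul_smul, hb2, ha2], u * u', T.mul_mem hu hu',
            c * c', C.mul_mem hc hc', ?_⟩
          have e : c * u' = u' * c := (hcomm u' hu' c hc).symm
          calc u * c * (u' * c') = u * (c * u') * c' := by group
            _ = u * (u' * c) * c' := by rw [e]
            _ = u * u' * (c * c') := by group
        inv_mem' := by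
          rintro a ⟨ha1, ha2, u, hu, c, hc, rfl⟩
          refine ⟨inv_smul_eq_iff.2 ha1.symm, inv_smul_eq_iff.2 ha2.symm, u⁻¹, T.inv_mem hu, c⁻¹,
            C.inv_mem hc, ?_⟩
          rw [mul_inv_rev]
          exact (hcomm u⁻¹ (T.inv_mem hu) c⁻¹ (C.inv_mem hc)).symm }
    have memQ : ∀ q, q ∈ Q ↔ (q • α = α ∧ q • β = β ∧ ∃ u ∈ T, ∃ c ∈ C, q = u * c) := fun q => Iff.rfl
    have hform : ∀ h : G, h • α = α → ∀ u ∈ T, ∀ c ∈ C,
        ∃ u' ∈ T, ∃ c' ∈ C, h * (u * c) * h⁻¹ = u' * c' := by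
      intro h hh u hu c hc
      have e : h * (u * c) * h⁻¹ = (h * u * h⁻¹) * (h * c * h⁻¹) := by group
      rcases hact h hh with ⟨h1, h2⟩ | ⟨h1, h2⟩
      · exact ⟨_, h1 ▸ conj_mem_cj hu, _, h2 ▸ conj_mem_cj hc, e⟩
      · refine ⟨_, h2 ▸ conj_mem_cj hc, _, h1 ▸ conj_mem_cj hu, ?_⟩
        rw [e]
        exact (hcomm _ (h2 ▸ conj_mem_cj hc) _ (h1 ▸ conj_mem_cj hu)).symm
    let K : Subgroup G := stabilizer G α ⊓ Subgroup.normalizer (Q : Set G)
    have hle : stabilizer G α ⊓ stabilizer G β ≤ K := by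
      intro h hh
      have hh' := Subgroup.mem_inf.1 hh
      have hh1 : h • α = α := hh'.1
      have hh2 : h • β = β := hh'.2
      refine Subgroup.mem_inf.2 ⟨hh'.1, norm_of_conj_le ?_⟩
      rintro q ⟨hq1, hq2, u, hu, c, hc, rfl⟩
      refine (memQ _).2 ⟨?_, ?_, hform h hh1 u hu c hc⟩
      · rw [mul_smul, mul_smul, inv_smul_eq_iff.2 hh1.symm, hq1, hh1]
      · rw [mul_smul, mul_smul, inv_smul_eq_iff.2 hh2.symm, hq2, hh2]
    -- conjugation of `Q` by an element with the normalizing property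
    have hconjQ : ∀ s' ∈ T, ∀ c' ∈ C, (s' * c') • α = α → ∀ u ∈ T, ∀ c'' ∈ C, (u * c'') • α = α →
        ((s' * u * s'⁻¹) * (c' * c'' * c'⁻¹)) • α = α := by
      intro s' hs' c' hc' hd u hu c'' hc'' hq
      rw [← hconjform s' hs' c' hc' u hu c'' hc'', mul_smul, mul_smul, inv_smul_eq_iff.2 hd.symm, hq,
        hd]
    rcases hcoat β hβ K hle inf_le_left with hK | hK
    · obtain ⟨c, hc, hsc⟩ := hexc s hs
      have hd : s * c ∈ K := by
        refine Subgroup.mem_inf.2 ⟨hsc, norm_of_conj_le ?_⟩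
        rintro q ⟨hq1, hq2, u, hu, c', hc', rfl⟩
        have hcom : u * t = t * u := (keyiff u hu c' hc' hq1 t ht).1 hq2
        have hu₁ : s * u * s⁻¹ ∈ T := T.mul_mem (T.mul_mem hs hu) (T.inv_mem hs)
        have hc₁ : c * c' * c⁻¹ ∈ C := C.mul_mem (C.mul_mem hc hc') (C.inv_mem hc)
        have hα := hconjQ s hs c hc hsc u hu c' hc' hq1
        rw [hconjform s hs c hc u hu c' hc']
        exact (memQ _).2 ⟨hα, (keyiff _ hu₁ _ hc₁ hα t ht).2 (hnorm u hu hcom), _, hu₁, _, hc₁, rfl⟩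
      rw [hK] at hd
      exact (keyiff s hs c hc hsc t ht).1 (Subgroup.mem_inf.1 hd).2
    · exfalso
      let t' : T := ⟨t, ht⟩
      let CT : Subgroup T := Subgroup.centralizer ({t'} : Set T)
      have memCT : ∀ x : T, x ∈ CT ↔ (x : G) * t = t * x := by
        intro x
        rw [Subgroup.mem_centralizer_singleton_iff]
        constructor
        · intro h
          exact congrArg Subtype.val h
        · intro h
          exact Subtype.ext h
      have hCTn : CT.Normal := by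
        refine ⟨fun n hn s' => ?_⟩
        rw [memCT] at hn ⊢
        obtain ⟨c', hc', hs'c⟩ := hexc s' s'.2
        obtain ⟨c'', hc'', hnc'⟩ := hexc n n.2
        have hqQ : (n : G) * c'' ∈ Q :=
          (memQ _).2 ⟨hnc', (keyiff n n.2 c'' hc'' hnc' t ht).2 hn, n, n.2, c'', hc'', rfl⟩
        have hdK : (s' : G) * c' ∈ K := by
          rw [hK]
          exact hs'c
        have hdN := (Subgroup.mem_inf.1 hdK).2
        have h1 := (Subgroup.mem_normalizer_iff.1 hdN _).1 hqQ
        rw [hconjform s' s'.2 c' hc' n n.2 c'' hc''] at h1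
        obtain ⟨h2, h3, -⟩ := (memQ _).1 h1
        have hu₁ : (s' : G) * n * (s' : G)⁻¹ ∈ T := T.mul_mem (T.mul_mem s'.2 n.2) (T.inv_mem s'.2)
        have hc₁ : c' * c'' * c'⁻¹ ∈ C := C.mul_mem (C.mul_mem hc' hc'') (C.inv_mem hc')
        have h4 := (keyiff _ hu₁ _ hc₁ h2 t ht).1 h3
        exact h4
      have ht'CT : t' ∈ CT := (memCT t').2 rfl
      rcases hsimple.eq_bot_or_eq_top_of_normal CT hCTn with h1 | h1
      · rw [h1, Subgroup.mem_bot] at ht'CT
        exact ht1 (congrArg Subtype.val ht'CT)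
      · have hcen : t' ∈ Subgroup.center T := by
          rw [Subgroup.mem_center_iff]
          intro g
          have : g ∈ CT := by rw [h1]; trivial
          exact Subtype.ext ((memCT g).1 this)
        rcases hsimple.eq_bot_or_eq_top_of_normal (Subgroup.center T) inferInstance with h2 | h2
        · rw [h2, Subgroup.mem_bot] at hcen
          exact ht1 (congrArg Subtype.val hcen)
        · apply hnc
          intro a ha b hb
          have : (⟨a, ha⟩ : T) ∈ Subgroup.center T := by rw [h2]; trivial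
          exact (congrArg Subtype.val (Subgroup.mem_center_iff.1 this ⟨b, hb⟩)).symm
  -- conclusion
  have hCH : CentHyp T := by
    refine ⟨fun t j htj s hs => ?_, fun t ht s hs => ?_⟩
    · apply Subtype.ext
      apply hpowG t t.2 j _ s s.2
      · exact congrArg Subtype.val hs.eq
      · intro h
        apply htj
        apply Subtype.ext
        simpa using h
    · apply Subtype.ext
      apply hnrmG t t.2 _ s s.2
      · intro u hu huc
        have h1 := hs ⟨u, hu⟩ (Subtype.ext huc)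
        exact congrArg Subtype.val h1.eq
      · intro h
        exact ht (Subtype.ext h)
  apply hCH.false
  intro hall
  apply hnc
  intro a ha b hb
  exact congrArg Subtype.val (hall ⟨a, ha⟩ ⟨b, hb⟩)

end LemmaA

end Cfsg.Agent.H16
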