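import Mathlib

set_option autoImplicit false
set_option linter.style.haveILetI false

namespace Cfsg.Agent.H16

open MulAction

section Basic

variable {G Ω : Type*} [Group G] [MulAction G Ω]

/-- A `G`-invariant equivalence relation under a primitive action, relating two distinct points,
relates every point to every other one. -/
theorem prim_rel [IsPreprimitive G Ω] (r : Ω → Ω → Prop) (hr : Equivalence r)
    (hinv : ∀ (g : G) (x y : Ω), r x y → r (g • x) (g • y)) {a b : Ω} (hab : a ≠ b) (h : r a b)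
    (y : Ω) : r a y := by
  let B : Set Ω := {x | r a x}
  have hB : IsBlock G B := by
    rw [isBlock_iff_smul_eq_of_nonempty]
    intro g hg
    obtain ⟨z, ⟨x, hx, rfl⟩, hz⟩ := hg
    have hx' : r a x := hx
    have hz' : r a (g • x) := hz
    have h1 : r (g • a) (g • x) := hinv g a x hx'
    have h2 : r a (g • a) := hr.trans hz' (hr.symm h1)
    ext w
    constructor
    · rintro ⟨u, hu, rfl⟩
      exact hr.trans h2 (hinv g a u hu)
    · intro hw
      have hw' : r a w := hw
      refine ⟨g⁻¹ • w, ?_, by simp⟩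
      have h3 : r (g • a) w := hr.trans (hr.symm h2) hw'
      have h4 := hinv g⁻¹ _ _ h3
      have h5 : r a (g⁻¹ • w) := by simpa using h4
      exact h5
  rcases hB.subsingleton_or_eq_univ with h1 | h1
  · exact absurd (h1 (hr.refl a) h) hab
  · have : y ∈ B := by rw [h1]; trivial
    exact this

/-- A subgroup `M` of `H`, normalised by `H`, which moves `ξ`, where `H` is primitive on the orbit
of `ξ`, is transitive on that orbit. -/
theorem normal_trans_of_moves (H M : Subgroup G) (ξ : Ω)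
    (hp : IsPreprimitive H (orbit H ξ)) (hMH : M ≤ H)
    (hn : H ≤ Subgroup.normalizer (M : Set G)) (hmv : ∃ m ∈ M, m • ξ ≠ ξ) :
    ∀ h ∈ H, ∃ m ∈ M, m • ξ = h • ξ := by
  obtain ⟨m₀, hm₀, hm₀ξ⟩ := hmv
  let N : Subgroup H := M.subgroupOf H
  have hN : N.Normal := by
    rw [Subgroup.normal_subgroupOf_iff_le_normalizer hMH]
    exact hn
  let x₀ : orbit H ξ := ⟨ξ, mem_orbit_self ξ⟩
  have hfix : fixedPoints N (orbit H ξ) ≠ Set.univ := by
    intro h
    have h1 : x₀ ∈ fixedPoints N (orbit H ξ) := by rw [h]; trivial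
    have h2 := h1 ⟨⟨m₀, hMH hm₀⟩, by simpa [N, Subgroup.mem_subgroupOf] using hm₀⟩
    apply hm₀ξ
    exact congrArg Subtype.val h2
  have htr := IsQuasiPreprimitive.isPretransitive_of_normal (G := H) (X := orbit H ξ) (N := N) hfix
  intro h hh
  let y : orbit H ξ := ⟨h • ξ, ⟨⟨h, hh⟩, rfl⟩⟩
  obtain ⟨n, hn'⟩ := htr.exists_smul_eq x₀ y
  refine ⟨(n : H), ?_, ?_⟩
  · exact n.2
  · exact congrArg Subtype.val hn'

/-- the kernel of the stabilizer of `a` on the orbit of `b` under it. -/
def sk (a b : Ω) : Subgroup G where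
  carrier := {x | x • a = a ∧ ∀ h ∈ stabilizer G a, x • (h • b) = h • b}
  one_mem' := by simp
  mul_mem' := by
    rintro x y ⟨hx1, hx2⟩ ⟨hy1, hy2⟩
    refine ⟨by rw [mul_smul, hy1, hx1], fun h hh => ?_⟩
    rw [mul_smul, hy2 h hh, hx2 h hh]
  inv_mem' := by
    rintro x ⟨hx1, hx2⟩
    refine ⟨inv_smul_eq_iff.2 hx1.symm, fun h hh => ?_⟩
    exact inv_smul_eq_iff.2 (hx2 h hh).symm

theorem mem_sk {a b : Ω} {x : G} :
    x ∈ sk a b ↔ x • a = a ∧ ∀ h ∈ stabilizer G a, x • (h • b) = h • b := Iff.rfl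

theorem sk_le_stabilizer (a b : Ω) : (sk a b : Subgroup G) ≤ stabilizer G a := fun _ hx => hx.1

theorem sk_fix {a b : Ω} {x : G} (hx : x ∈ sk a b) : x • b = b := by
  have := hx.2 1 (Subgroup.one_mem _)
  simpa using this

theorem sk_normal (a b : Ω) :
    stabilizer G a ≤ Subgroup.normalizer ((sk a b : Subgroup G) : Set G) := by
  rw [Subgroup.le_normalizer_iff]
  rintro u hu x ⟨hx1, hx2⟩
  have hu' : u • a = a := hu
  refine ⟨?_, fun h hh => ?_⟩
  · rw [mul_smul, mul_smul, inv_smul_eq_iff.2 hu'.symm, hx1, hu']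
  · rw [mul_smul, mul_smul]
    have h1 : u⁻¹ • (h • b) = (u⁻¹ * h) • b := (mul_smul _ _ _).symm
    rw [h1, hx2 _ (Subgroup.mul_mem _ (Subgroup.inv_mem _ hu) hh), smul_smul]
    simp

theorem sk_conj {a b : Ω} {x : G} (g : G) (hx : x ∈ sk a b) : g * x * g⁻¹ ∈ sk (g • a) (g • b) := by
  obtain ⟨hx1, hx2⟩ := hx
  refine ⟨by simp [mul_smul, hx1], fun h hh => ?_⟩
  have hh' : h • g • a = g • a := hh
  have hmem : g⁻¹ * h * g ∈ stabilizer G a := by
    rw [mem_stabilizer_iff, mul_smul, mul_smul, hh', inv_smul_smul]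
  have h1 := hx2 _ hmem
  have h2 : x • (g⁻¹ • h • g • b) = g⁻¹ • h • g • b := by
    simpa [mul_smul] using h1
  simp only [mul_smul]
  rw [h2, smul_inv_smul]

theorem card_sk_le [Finite G] (a b : Ω) (g : G) :
    Nat.card (sk a b : Subgroup G) ≤ Nat.card (sk (g • a) (g • b) : Subgroup G) := by
  let f : ↥(sk a b : Subgroup G) → ↥(sk (g • a) (g • b) : Subgroup G) :=
    fun x => ⟨g * x * g⁻¹, sk_conj g x.2⟩
  apply Nat.card_le_card_of_injective f
  intro x y hxy
  have h1 : g * (x : G) * g⁻¹ = g * y * g⁻¹ := congrArg Subtype.val hxy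
  apply Subtype.ext
  simpa using h1

theorem card_sk_eq [Finite G] (a b : Ω) (g : G) :
    Nat.card (sk (g • a) (g • b) : Subgroup G) = Nat.card (sk a b : Subgroup G) := by
  apply le_antisymm
  · have := card_sk_le (G := G) (g • a) (g • b) g⁻¹
    simpa using this
  · exact card_sk_le a b g

end Basic

section Manning

variable {G Ω : Type*} [Group G] [MulAction G Ω] [FaithfulSMul G Ω]

/-- `G_a = G_b` only for `a = b`, under the hypotheses of nontrivial stabilizers. -/
theorem stabilizer_ne [IsPreprimitive G Ω] [Finite Ω] (hH : ∀ α : Ω, stabilizer G α ≠ ⊥) {a b : Ω} (hab : a ≠ b) :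
    stabilizer G a ≠ stabilizer G b := by
  intro h
  have hr := prim_rel (G := G) (fun x y : Ω => stabilizer G x = stabilizer G y)
    ⟨fun _ => rfl, fun h => h.symm, fun h1 h2 => h1.trans h2⟩ (by
      intro g x y hxy
      simp only [stabilizer_smul_eq_stabilizer_map_conj, hxy]) hab h
  apply hH a
  rw [eq_bot_iff]
  intro x hx
  rw [Subgroup.mem_bot]
  apply eq_of_smul_eq_smul (α := Ω)
  intro y
  have h1 : x ∈ stabilizer G y := by
    rw [← hr y]
    exact hx
  simpa using h1

/-- **Manning's theorem**: the kernel of a point stabilizer on a non-trivial orbit is trivial. -/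
theorem sk_eq_bot [Finite G] [Finite Ω] [IsPreprimitive G Ω] (hH : ∀ α : Ω, stabilizer G α ≠ ⊥)
    (hep : ∀ (α : Ω) (ω : Ω), IsPreprimitive (stabilizer G α) (orbit (stabilizer G α) ω))
    (α ω : Ω) (hω : ω ≠ α) : (sk α ω : Subgroup G) = ⊥ := by
  classical
  -- choose `β` with maximal kernel
  obtain ⟨β, hβ, hβmax⟩ : ∃ β : Ω, β ≠ α ∧ ∀ b : Ω, b ≠ α →
      Nat.card (sk α b : Subgroup G) ≤ Nat.card (sk α β : Subgroup G) := by
    have hfin : ({b : Ω | b ≠ α}).Finite := Set.toFinite _
    obtain ⟨β, hβ, hmax⟩ := Set.exists_max_image _ (fun b => Nat.card (sk α b : Subgroup G)) hfin ⟨ω, hω⟩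
    exact ⟨β, hβ, fun b hb => hmax b hb⟩
  suffices hK : (sk α β : Subgroup G) = ⊥ by
    have h1 := hβmax ω hω
    rw [hK, Subgroup.card_bot] at h1
    have h2 : Nat.card (sk α ω : Subgroup G) = 1 := le_antisymm h1 Nat.card_pos
    exact Subgroup.eq_bot_of_card_eq _ h2
  set K : Subgroup G := sk α β with hKdef
  have hαβ : α ≠ β := hβ.symm
  have hKstab : K ≤ stabilizer G α := sk_le_stabilizer α β
  have hNK : stabilizer G α ≤ Subgroup.normalizer (K : Set G) := sk_normal α β
  have : Nontrivial Ω := ⟨⟨α, β, hαβ⟩⟩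
  by_cases hle : K ≤ sk β α
  · -- `K` is the kernel at `β` too
    obtain ⟨g, hg⟩ := exists_smul_eq G β α
    have hgα : g • α ≠ α := by
      intro h
      apply hαβ
      have : g • α = g • β := by rw [h, hg]
      exact smul_left_cancel g this
    have hcard : Nat.card (sk β α : Subgroup G) ≤ Nat.card K := by
      rw [← card_sk_eq β α g, hg]
      exact hβmax _ hgα
    have hKeq : K = sk β α := Subgroup.eq_of_le_of_card_ge hle hcard
    have hNK2 : stabilizer G β ≤ Subgroup.normalizer (K : Set G) := by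
      rw [hKeq]
      exact sk_normal β α
    have hcoat : IsCoatom (stabilizer G α) := IsPreprimitive.isCoatom_stabilizer_of_isPreprimitive G α
    have htop : Subgroup.normalizer (K : Set G) = ⊤ := by
      rcases (hcoat.le_iff).1 hNK with h | h
      · exact h
      · exfalso
        have hle2 : stabilizer G β ≤ stabilizer G α := h ▸ hNK2
        have hcardβ : Nat.card (stabilizer G α) ≤ Nat.card (stabilizer G β) := by
          obtain ⟨g', hg'⟩ := exists_smul_eq G α β
          rw [← hg', stabilizer_smul_eq_stabilizer_map_conj]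
          exact (Subgroup.card_map_of_injective (MulEquiv.injective _)).ge
        exact stabilizer_ne hH hαβ (Subgroup.eq_of_le_of_card_ge hle2 hcardβ).symm
    rw [eq_bot_iff]
    intro x hx
    rw [Subgroup.mem_bot]
    apply eq_of_smul_eq_smul (α := Ω)
    intro y
    obtain ⟨g', rfl⟩ := exists_smul_eq G α y
    have hg'N : g'⁻¹ ∈ Subgroup.normalizer (K : Set G) := by rw [htop]; trivial
    have h1 : g'⁻¹ * x * g' ∈ K := by
      have := (Subgroup.mem_normalizer_iff.1 hg'N x).1 hx
      simpa using this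
    have h2 : (g'⁻¹ * x * g') • α = α := hKstab h1
    calc x • g' • α = g' • ((g'⁻¹ * x * g') • α) := by simp [mul_smul]
      _ = g' • α := by rw [h2]
      _ = (1 : G) • g' • α := by simp
  · -- `K` moves a point of the paired suborbit
    exfalso
    rw [SetLike.not_le_iff_exists] at hle
    obtain ⟨x, hxK, hx⟩ := hle
    have hxβ : x • β = β := sk_fix hxK
    have hexs : ∃ s ∈ stabilizer G β, x • (s • α) ≠ s • α := by
      by_contra hcon
      push Not at hcon
      exact hx ⟨hxβ, hcon⟩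
    obtain ⟨s, hs, hxξ⟩ := hexs
    have hsβ : s • β = β := hs
    set ξ := s • α with hξ
    have hxα : x • α = α := hKstab hxK
    have hξα : α ≠ ξ := by
      intro h
      apply hxξ
      rw [← h, hxα]
    have htrans := normal_trans_of_moves (stabilizer G α) K ξ (hep α ξ) hKstab hNK ⟨x, hxK, hxξ⟩
    -- the relation
    let D : Ω → Set Ω := fun u => {v | ∃ g : G, g • α = u ∧ g • β = v}
    have hDsmul : ∀ (g : G) (u : Ω), D (g • u) = (fun v => g • v) '' D u := by
      intro g u
      ext v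
      constructor
      · rintro ⟨c, hc1, hc2⟩
        refine ⟨g⁻¹ • v, ⟨g⁻¹ * c, ?_, ?_⟩, by simp⟩
        · rw [mul_smul, hc1, inv_smul_smul]
        · rw [mul_smul, hc2]
      · rintro ⟨w, ⟨c, hc1, hc2⟩, rfl⟩
        exact ⟨g * c, by rw [mul_smul, hc1], by rw [mul_smul, hc2]⟩
    have hsub : D α ⊆ D ξ := by
      rintro v ⟨g, hg1, hg2⟩
      have hgα : g ∈ stabilizer G α := hg1
      obtain ⟨k, hk, hkξ⟩ := htrans g⁻¹ (Subgroup.inv_mem _ hgα)
      have hkβ : k • β = β := sk_fix hk
      refine ⟨g * k * s, ?_, ?_⟩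
      · simp only [mul_smul]
        rw [← hξ, hkξ, smul_inv_smul]
      · simp only [mul_smul]
        rw [hsβ, hkβ, hg2]
    have hDeq : D α = D ξ := by
      apply Set.eq_of_subset_of_ncard_le hsub
      rw [hξ, hDsmul, Set.ncard_image_of_injective _ (MulAction.injective s)]
    have hr := prim_rel (G := G) (fun x y : Ω => D x = D y)
      ⟨fun _ => rfl, fun h => h.symm, fun h1 h2 => h1.trans h2⟩ (by
        intro g x y hxy
        simp only [hDsmul, hxy]) hξα hDeq
    have h1 : β ∈ D α := ⟨1, by simp, by simp⟩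
    rw [hr β] at h1
    obtain ⟨g, hg1, hg2⟩ := h1
    apply hαβ
    apply smul_left_cancel g
    rw [hg1, hg2]

/-- A nontrivial subgroup of `G_α`, normalised by `G_α`, is transitive on each non-trivial orbit. -/
theorem normal_trans_ext [Finite G] [Finite Ω] [IsPreprimitive G Ω] (hH : ∀ α : Ω, stabilizer G α ≠ ⊥)
    (hep : ∀ (α : Ω) (ω : Ω), IsPreprimitive (stabilizer G α) (orbit (stabilizer G α) ω))
    (α ω : Ω) (hω : ω ≠ α) (M : Subgroup G) (hM : M ≠ ⊥) (hMle : M ≤ stabilizer G α)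
    (hMn : stabilizer G α ≤ Subgroup.normalizer (M : Set G)) :
    ∀ h ∈ stabilizer G α, ∃ m ∈ M, m • ω = h • ω := by
  apply normal_trans_of_moves _ _ _ (hep α ω) hMle hMn
  by_contra hcon
  push Not at hcon
  apply hM
  rw [eq_bot_iff, ← sk_eq_bot hH hep α ω hω]
  intro x hx
  refine ⟨hMle hx, fun h hh => ?_⟩
  have h1 : h⁻¹ * x * h ∈ M := by
    have := (Subgroup.mem_normalizer_iff.1 (hMn (Subgroup.inv_mem _ hh)) x).1 hx
    simpa using this
  have h2 := hcon _ h1
  calc x • h • ω = h • ((h⁻¹ * x * h) • ω) := by simp [mul_smul]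
    _ = h • ω := by rw [h2]

/-- an abelian subgroup normalised by `G_α` acts semiregularly on the non-trivial orbits. -/
theorem abelian_free_ext [Finite G] [Finite Ω] [IsPreprimitive G Ω] (hH : ∀ α : Ω, stabilizer G α ≠ ⊥)
    (hep : ∀ (α : Ω) (ω : Ω), IsPreprimitive (stabilizer G α) (orbit (stabilizer G α) ω))
    (α ω : Ω) (hω : ω ≠ α) (A : Subgroup G) (hA : A ≠ ⊥) (hAle : A ≤ stabilizer G α)
    (hAn : stabilizer G α ≤ Subgroup.normalizer (A : Set G))
    (hAc : ∀ a ∈ A, ∀ b ∈ A, a * b = b * a) {a : G} (ha : a ∈ A) (hfix : a • ω = ω) : a = 1 := by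
  have h1 : a ∈ (sk α ω : Subgroup G) := by
    refine ⟨hAle ha, fun h hh => ?_⟩
    obtain ⟨a', ha', h2⟩ := normal_trans_ext hH hep α ω hω A hA hAle hAn h hh
    rw [← h2, ← mul_smul, hAc a ha a' ha', mul_smul, hfix]
  rw [sk_eq_bot hH hep α ω hω, Subgroup.mem_bot] at h1
  exact h1

/-- an abelian subgroup normalised by `G_α` is self-centralising in `G_α`. -/
theorem abelian_selfcent_ext [Finite G] [Finite Ω] [IsPreprimitive G Ω] (hH : ∀ α : Ω, stabilizer G α ≠ ⊥)
    (hep : ∀ (α : Ω) (ω : Ω), IsPreprimitive (stabilizer G α) (orbit (stabilizer G α) ω))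
    (α ω : Ω) (hω : ω ≠ α) (A : Subgroup G) (hA : A ≠ ⊥) (hAle : A ≤ stabilizer G α)
    (hAn : stabilizer G α ≤ Subgroup.normalizer (A : Set G))
    (hAc : ∀ a ∈ A, ∀ b ∈ A, a * b = b * a) {x : G} (hx : x ∈ stabilizer G α)
    (hxc : ∀ a ∈ A, x * a = a * x) : x ∈ A := by
  obtain ⟨a, ha, h1⟩ := normal_trans_ext hH hep α ω hω A hA hAle hAn x hx
  have h2 : a⁻¹ * x ∈ (sk α ω : Subgroup G) := by
    refine ⟨?_, fun h hh => ?_⟩
    · exact Subgroup.mul_mem _ (Subgroup.inv_mem _ (hAle ha)) hx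
    · obtain ⟨a', ha', h3⟩ := normal_trans_ext hH hep α ω hω A hA hAle hAn h hh
      have h4 : (a⁻¹ * x) * a' = a' * (a⁻¹ * x) := by
        rw [mul_assoc, hxc a' ha', ← mul_assoc, ← mul_assoc]
        congr 1
        have := hAc a ha a' ha'
        calc a⁻¹ * a' = a⁻¹ * (a' * a) * a⁻¹ := by group
          _ = a⁻¹ * (a * a') * a⁻¹ := by rw [this]
          _ = a' * a⁻¹ := by group
      have h5 : (a⁻¹ * x) • ω = ω := by
        rw [mul_smul, ← h1, inv_smul_smul]
      rw [← h3, ← mul_smul, h4, mul_smul, h5]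
  rw [sk_eq_bot hH hep α ω hω, Subgroup.mem_bot] at h2
  have h3 : x = a := by
    have := mul_eq_one_iff_eq_inv.1 h2
    simpa using this.symm
  rw [h3]
  exact ha

omit [FaithfulSMul G Ω] in
/-- all point stabilizers nontrivial, from one. -/
theorem stabilizer_ne_bot_all [Finite G] [IsPretransitive G Ω] {α : Ω} (h : stabilizer G α ≠ ⊥) (β : Ω) :
    stabilizer G β ≠ ⊥ := by
  obtain ⟨g, rfl⟩ := exists_smul_eq G α β
  rw [stabilizer_smul_eq_stabilizer_map_conj]
  intro h2
  apply h
  rw [Subgroup.map_eq_bot_iff_of_injective _ (MulEquiv.injective _)] at h2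
  exact h2

end Manning

end Cfsg.Agent.H16
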