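import Cfsg.Agent.Lib.H16.ExtA
import Cfsg.Agent.Lib.H16.ExtPrim
import Cfsg.Agent.Lib.H17.Derangement

set_option autoImplicit false
set_option linter.style.haveILetI false

namespace Cfsg.Agent.H16

open MulAction

section Gen

variable {G : Type*} [Group G] [Finite G]

theorem mem_norm_iSup {ι : Type*} (A : ι → Subgroup G) (u : G)
    (hu : ∀ i, ∀ x ∈ A i, u * x * u⁻¹ ∈ ⨆ i, A i) :
    u ∈ Subgroup.normalizer ((⨆ i, A i : Subgroup G) : Set G) := by
  apply norm_of_conj_le
  have h : (⨆ i, A i) ≤ (⨆ i, A i).comap (MulAut.conj u).toMonoidHom :=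
    iSup_le fun i x hx => hu i x hx
  exact fun x hx => h hx

theorem mem_norm_closure (S : Set G) (u : G)
    (hu : ∀ x ∈ S, u * x * u⁻¹ ∈ Subgroup.closure S) :
    u ∈ Subgroup.normalizer ((Subgroup.closure S : Subgroup G) : Set G) := by
  apply norm_of_conj_le
  have h : Subgroup.closure S ≤ (Subgroup.closure S).comap (MulAut.conj u).toMonoidHom :=
    (Subgroup.closure_le _).2 fun x hx => hu x hx
  exact fun x hx => h hx

omit [Finite G] in
/-- factorisation of elements of a minimal normal subgroup -/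
theorem minSub_factor {N T : Subgroup G} (hN : N.Normal)
    (hmin : ∀ X : Subgroup G, X.Normal → X ≤ N → X = ⊥ ∨ X = N) (hT : IsMinSub N T) :
    ∀ m ∈ N, ∃ u ∈ T, ∃ w ∈ N, (∀ x ∈ T, w * x = x * w) ∧ m = u * w := by
  intro m hm
  let W : Subgroup G := N ⊓ Subgroup.centralizer (T : Set G)
  have hle : ∀ g : G, cj g T ≤ W ⊔ T := by
    intro g
    by_cases e : cj g T = T
    · rw [e]
      exact le_sup_right
    · refine le_trans ?_ le_sup_left
      intro x hx
      refine Subgroup.mem_inf.2 ⟨cj_le_of_normal hN hT.le g hx, ?_⟩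
      rw [Subgroup.mem_centralizer_iff]
      intro t ht
      exact hT.comm (hT.conj hN g) (Ne.symm e) ht hx
  have hNle := le_of_forall_cj_le hT.ne hT.le hN hmin hle
  have hW : W ≤ Subgroup.normalizer (T : Set G) := inf_le_left.trans hT.nrm
  have hm' : m ∈ ((W ⊔ T : Subgroup G) : Set G) := hNle hm
  rw [Subgroup.coe_mul_of_left_le_normalizer_right W T hW] at hm'
  obtain ⟨w, hw, u, hu, rfl⟩ := Set.mem_mul.mp hm'
  have hwc := Subgroup.mem_centralizer_iff.1 (Subgroup.mem_inf.1 hw).2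
  refine ⟨u, hu, w, (Subgroup.mem_inf.1 hw).1, fun x hx => (hwc x hx).symm, (hwc u hu).symm⟩

theorem minSub_simple {N T : Subgroup G} (hT : IsMinSub N T)
    (hfac : ∀ m ∈ N, ∃ u ∈ T, ∃ w ∈ N, (∀ x ∈ T, w * x = x * w) ∧ m = u * w) :
    IsSimpleGroup T := by
  have hnt : Nontrivial T := by
    rw [Subgroup.nontrivial_iff_ne_bot]
    exact hT.ne
  refine { eq_bot_or_eq_top_of_normal := fun Y hY => ?_ }
  by_cases hYb : Y = ⊥
  · exact Or.inl hYb
  · right
    let Y' : Subgroup G := Y.map T.subtype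
    have hY'T : Y' ≤ T := Subgroup.map_subtype_le _
    have hY'ne : Y' ≠ ⊥ := by
      intro h
      rw [Subgroup.map_eq_bot_iff_of_injective _ (Subgroup.subtype_injective _)] at h
      exact hYb h
    have hY'n : N ≤ Subgroup.normalizer (Y' : Set G) := by
      intro n hn
      apply norm_of_conj_le
      rintro _ ⟨y, hy, rfl⟩
      obtain ⟨u, hu, w, -, hwc, rfl⟩ := hfac n hn
      have e : u * w * (y : G) * (u * w)⁻¹ = u * y * u⁻¹ := by
        have := hwc y y.2
        calc u * w * (y : G) * (u * w)⁻¹ = u * (w * y) * w⁻¹ * u⁻¹ := by group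
          _ = u * (y * w) * w⁻¹ * u⁻¹ := by rw [this]
          _ = u * y * u⁻¹ := by group
      show u * w * (y : G) * (u * w)⁻¹ ∈ Y'
      rw [e]
      exact ⟨_, hY.conj_mem y hy ⟨u, hu⟩, rfl⟩
    have hTY := hT.min Y' hY'ne hY'T hY'n
    rw [eq_top_iff]
    intro m _
    have hm : (m : G) ∈ Y' := hTY.ge m.2
    obtain ⟨y, hy, hym⟩ := hm
    have : y = m := Subtype.ext hym
    rwa [← this]

theorem not_isPGroup_minSub {N T : Subgroup G} (hT : IsMinSub N T)
    (hnab : ¬ ∀ a ∈ T, ∀ b ∈ T, a * b = b * a) {p : ℕ} [hp : Fact p.Prime] : ¬ IsPGroup p T := by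
  intro h
  have hnt : Nontrivial T := by
    rw [Subgroup.nontrivial_iff_ne_bot]
    exact hT.ne
  have hz := h.center_nontrivial
  obtain ⟨z, hz1⟩ := exists_ne (1 : Subgroup.center T)
  have h1 : ((z : T) : G) = 1 := hT.center_trivial hnab (z : T).2 (by
    intro t ht
    have := Subgroup.mem_center_iff.1 z.2 ⟨t, ht⟩
    exact (congrArg Subtype.val this).symm)
  apply hz1
  apply Subtype.ext
  apply Subtype.ext
  exact h1

end Gen

section Action

variable {G Ω : Type*} [Group G] [Finite G] [Finite Ω] [MulAction G Ω] [FaithfulSMul G Ω]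

omit [Finite G] [Finite Ω] in
theorem eq_one_of_forall_fix {x : G} (h : ∀ y : Ω, x • y = y) : x = 1 := by
  apply eq_of_smul_eq_smul (α := Ω)
  intro y
  rw [h y, one_smul]

omit [Finite G] [Finite Ω] in
/-- a normal subgroup in a stabilizer is trivial, for a transitive action -/
theorem eq_bot_of_normal_le_stab [IsPretransitive G Ω] {L : Subgroup G} (α : Ω)
    (hn : L.Normal) (hL : L ≤ stabilizer G α) : L = ⊥ := by
  rw [eq_bot_iff]
  intro x hx
  rw [Subgroup.mem_bot]
  apply eq_one_of_forall_fix (Ω := Ω)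
  intro y
  obtain ⟨g, rfl⟩ := exists_smul_eq G α y
  have h1 : g⁻¹ * x * g ∈ L := by
    have := hn.conj_mem x hx g⁻¹
    simpa using this
  have h2 : (g⁻¹ * x * g) • α = α := hL h1
  calc x • g • α = g • ((g⁻¹ * x * g) • α) := by simp [mul_smul]
    _ = g • α := by rw [h2]

theorem ext_coatom [IsPreprimitive G Ω] (hH : ∀ α : Ω, stabilizer G α ≠ ⊥)
    (hep : ∀ (α : Ω) (ω : Ω), IsPreprimitive (stabilizer G α) (orbit (stabilizer G α) ω))
    (α β : Ω) (hβ : β ≠ α) :
    ¬ stabilizer G α ≤ stabilizer G β ∧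
      ∀ K : Subgroup G, stabilizer G α ⊓ stabilizer G β ≤ K → K ≤ stabilizer G α →
        K = stabilizer G α ⊓ stabilizer G β ∨ K = stabilizer G α := by
  have h1 : ¬ stabilizer G α ≤ stabilizer G β := by
    intro hle
    have hcard : Nat.card (stabilizer G β) ≤ Nat.card (stabilizer G α) := by
      obtain ⟨g, rfl⟩ := exists_smul_eq G α β
      rw [stabilizer_smul', card_cj]
    exact stabilizer_ne hH (Ne.symm hβ) (Subgroup.eq_of_le_of_card_ge hle hcard)
  refine ⟨h1, fun K hK1 hK2 => ?_⟩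
  let H := stabilizer G α
  let a : orbit H β := ⟨β, mem_orbit_self β⟩
  obtain ⟨h, hh⟩ : ∃ h ∈ H, h • β ≠ β := by
    by_contra hcon
    push Not at hcon
    exact h1 hcon
  have hnt : Nontrivial (orbit H β) := by
    refine ⟨a, ⟨h • β, ⟨⟨h, hh.1⟩, rfl⟩⟩, ?_⟩
    intro he
    exact hh.2 (congrArg Subtype.val he).symm
  have hprim := hep α β
  have hcoat : IsCoatom (stabilizer H a) := IsPreprimitive.isCoatom_stabilizer_of_isPreprimitive H a
  have hmem : ∀ x : H, x ∈ stabilizer H a ↔ (x : G) • β = β := by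
    intro x
    rw [mem_stabilizer_iff]
    constructor
    · intro h'
      exact congrArg Subtype.val h'
    · intro h'
      exact Subtype.ext h'
  have hle : stabilizer H a ≤ K.subgroupOf H := by
    intro x hx
    rw [Subgroup.mem_subgroupOf]
    exact hK1 (Subgroup.mem_inf.2 ⟨x.2, (hmem x).1 hx⟩)
  rcases (hcoat.le_iff).1 hle with h2 | h2
  · right
    apply le_antisymm hK2
    intro x hx
    have : (⟨x, hx⟩ : H) ∈ K.subgroupOf H := by rw [h2]; trivial
    exact this
  · left
    apply le_antisymm _ hK1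
    intro x hx
    have hxH : x ∈ H := hK2 hx
    have h3 : (⟨x, hxH⟩ : H) ∈ K.subgroupOf H := hx
    rw [h2] at h3
    exact Subgroup.mem_inf.2 ⟨hxH, (hmem _).1 h3⟩

/-- Case I : a normal simple nonabelian subgroup with nontrivial centralizer. -/
theorem case_I [IsPreprimitive G Ω] (hH : ∀ α : Ω, stabilizer G α ≠ ⊥)
    (hep : ∀ (α : Ω) (ω : Ω), IsPreprimitive (stabilizer G α) (orbit (stabilizer G α) ω))
    (α : Ω) (N : Subgroup G) (hN : N.Normal) [hs : IsSimpleGroup N]
    (hnc : ¬ ∀ a ∈ N, ∀ b ∈ N, a * b = b * a) (hC : Subgroup.centralizer (N : Set G) ≠ ⊥) :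
    False := by
  have hCn : (Subgroup.centralizer (N : Set G)).Normal := inferInstance
  have htrC : IsPretransitive (Subgroup.centralizer (N : Set G)) Ω := normal_trans (X := Ω) _ hC
  have hCtr : ∀ ω : Ω, ∃ c ∈ Subgroup.centralizer (N : Set G), c • α = ω := by
    intro ω
    obtain ⟨c, hc⟩ := htrC.exists_smul_eq α ω
    exact ⟨c, c.2, hc⟩
  refine lemmaA α N (Subgroup.centralizer (N : Set G)) ?_ hCtr ?_ hnc ?_ ?_ ?_
  · intro n hn hnα
    apply eq_one_of_forall_fix (Ω := Ω)
    intro y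
    obtain ⟨c, hc, rfl⟩ := hCtr y
    rw [← mul_smul, Subgroup.mem_centralizer_iff.1 hc n hn, mul_smul, hnα]
  · intro t ht c hc
    exact Subgroup.mem_centralizer_iff.1 hc t ht
  · intro h _
    left
    exact ⟨mem_cj_self_of_normal, mem_cj_self_of_normal⟩
  · intro β hβ K h1 h2
    exact (ext_coatom hH hep α β hβ).2 K h1 h2
  · intro β hβ
    exact (ext_coatom hH hep α β hβ).1

end Action

end Cfsg.Agent.H16
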