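import Cfsg.Agent.Lib.H16.ExtMain1

set_option autoImplicit false
set_option linter.style.haveILetI false

namespace Cfsg.Agent.H16

open MulAction

section Action

open scoped Pointwise

variable {G Ω : Type*} [Group G] [Finite G] [Finite Ω] [MulAction G Ω] [FaithfulSMul G Ω]

omit [Finite Ω] [FaithfulSMul G Ω] in
theorem exists_stab_cj {N T : Subgroup G} (hN : N.Normal) (hT : IsMinSub N T)
    (htr : IsPretransitive N Ω) (α : Ω) (g : G) :
    ∃ h ∈ stabilizer G α, cj g T = cj h T := by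
  obtain ⟨n, hn⟩ := htr.exists_smul_eq α (g • α)
  have hn' : (n : G) • α = g • α := hn
  refine ⟨(n : G)⁻¹ * g, ?_, ?_⟩
  · rw [mem_stabilizer_iff, mul_smul, ← hn', inv_smul_smul]
  · have h1 := (hT.conj hN ((n : G)⁻¹ * g)).nrm n.2
    have h2 := cj_eq_of_mem_normalizer h1
    rw [← h2, ← cj_mul, mul_inv_cancel_left]

/-- Case (a) -/
theorem case_a [IsPreprimitive G Ω] (hH : ∀ α : Ω, stabilizer G α ≠ ⊥)
    (hep : ∀ (α : Ω) (ω : Ω), IsPreprimitive (stabilizer G α) (orbit (stabilizer G α) ω))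
    (α : Ω) (N : Subgroup G) (hN : N.Normal) (hNne : N ≠ ⊥)
    (hmin : ∀ X : Subgroup G, X.Normal → X ≤ N → X = ⊥ ∨ X = N) (T : Subgroup G)
    (hT : IsMinSub N T) (hne : ∃ g : G, cj g T ≠ T) (hR : T ⊓ stabilizer G α ≠ ⊥) : False := by
  have htrG : IsPretransitive G Ω := inferInstance
  have htrN : IsPretransitive N Ω := normal_trans (X := Ω) N hNne
  have hconj := exists_stab_cj hN hT htrN α
  let H := stabilizer G α
  let L : Subgroup G := ⨆ g : G, cj g T ⊓ H
  have hLH : L ≤ H := iSup_le fun g => inf_le_right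
  have hLne : L ≠ ⊥ := by
    intro h
    apply hR
    rw [eq_bot_iff, ← h]
    have h1 := le_iSup (fun g : G => cj g T ⊓ H) 1
    simp only [cj_one] at h1
    exact h1
  have hnorm : H ≤ Subgroup.normalizer (L : Set G) := by
    intro h hh
    apply mem_norm_iSup
    intro g x hx
    have hx' := Subgroup.mem_inf.1 hx
    refine (le_iSup (fun g : G => cj g T ⊓ H) (h * g)) (Subgroup.mem_inf.2 ⟨?_, ?_⟩)
    · rw [cj_mul]
      exact conj_mem_cj hx'.1
    · exact H.mul_mem (H.mul_mem hh hx'.2) (H.inv_mem hh)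
  obtain ⟨ω₀, hω₀⟩ : ∃ ω : Ω, ω ≠ α := by
    obtain ⟨x, hx, hx1⟩ := (Subgroup.bot_or_exists_ne_one _).resolve_left (hH α)
    by_contra hcon
    push Not at hcon
    apply hx1
    apply eq_one_of_forall_fix (Ω := Ω)
    intro y
    rw [hcon y]
    exact hx
  have hnt : Nontrivial Ω := ⟨⟨ω₀, α, hω₀⟩⟩
  have hcoat : IsCoatom H := IsPreprimitive.isCoatom_stabilizer_of_isPreprimitive G α
  have hNL : Subgroup.normalizer (L : Set G) = H := by
    rcases (hcoat.le_iff).1 hnorm with h | h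
    · exfalso
      have hLn : L.Normal := Subgroup.normalizer_eq_top_iff.1 h
      exact hLne (eq_bot_of_normal_le_stab α hLn hLH)
    · exact h
  have K1 : ∀ g₁ g₂ : G, cj g₁ T ≠ cj g₂ T → ∀ t₁ ∈ cj g₁ T, ∀ t₂ ∈ cj g₂ T, t₁ • α = t₂ • α →
      t₁ • α = α := by
    intro g₁ g₂ hgne t₁ ht₁ t₂ ht₂ hteq
    have hy : t₂⁻¹ * t₁ ∈ H := by
      change (t₂⁻¹ * t₁) • α = α
      rw [mul_smul, hteq, inv_smul_smul]
    have hT₁ := hT.conj hN g₁
    have hT₂ := hT.conj hN g₂
    have hmem : t₁ ∈ Subgroup.normalizer (L : Set G) := by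
      apply mem_norm_iSup
      intro g x hx
      have hx' := Subgroup.mem_inf.1 hx
      have hTg := hT.conj hN g
      refine (le_iSup (fun g : G => cj g T ⊓ H) g) (Subgroup.mem_inf.2 ⟨?_, ?_⟩)
      · exact (Subgroup.le_normalizer_iff.1 hTg.nrm) t₁ (hT₁.le ht₁) x hx'.1
      · by_cases e : cj g T = cj g₁ T
        · have hx1 : x ∈ cj g₁ T := e ▸ hx'.1
          have h1 : t₁ * x * t₁⁻¹ ∈ cj g₁ T :=
            (Subgroup.le_normalizer_iff.1 hT₁.nrm) t₁ (hT₁.le ht₁) x hx1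
          have h2 := hT₁.comm hT₂ hgne h1 ht₂
          have e2 : t₁ * x * t₁⁻¹ = (t₂⁻¹ * t₁) * x * (t₂⁻¹ * t₁)⁻¹ := by
            have : (t₂⁻¹ * t₁) * x * (t₂⁻¹ * t₁)⁻¹ = t₂⁻¹ * (t₁ * x * t₁⁻¹) * t₂ := by group
            have e3 : t₂⁻¹ * (t₁ * x * t₁⁻¹) * t₂ = t₁ * x * t₁⁻¹ := by
              calc t₂⁻¹ * (t₁ * x * t₁⁻¹) * t₂ = t₂⁻¹ * ((t₁ * x * t₁⁻¹) * t₂) := by group
                _ = t₂⁻¹ * (t₂ * (t₁ * x * t₁⁻¹)) := by rw [h2]
                _ = t₁ * x * t₁⁻¹ := by group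
            rw [this, e3]
          rw [e2]
          exact H.mul_mem (H.mul_mem hy hx'.2) (H.inv_mem hy)
        · have h1 : t₁ * x = x * t₁ := hT₁.comm hTg (Ne.symm e) ht₁ hx'.1
          rw [h1]
          simpa using hx'.2
    rw [hNL] at hmem
    exact hmem
  obtain ⟨t, ht, htα⟩ : ∃ t ∈ T, t • α ≠ α := by
    by_contra hcon
    push Not at hcon
    have hall : ∀ g : G, cj g T ≤ H := by
      intro g
      obtain ⟨h, hh, e⟩ := hconj g
      rw [e]
      rintro _ ⟨t, ht, rfl⟩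
      exact H.mul_mem (H.mul_mem hh (hcon t ht)) (H.inv_mem hh)
    have hNH := le_of_forall_cj_le hT.ne hT.le hN hmin hall
    exact hNne (eq_bot_of_normal_le_stab α hN hNH)
  let M : Subgroup G := N ⊓ H
  have hM : M ≠ ⊥ := by
    intro h
    apply hR
    rw [eq_bot_iff, ← h]
    intro x hx
    have hx' := Subgroup.mem_inf.1 hx
    exact Subgroup.mem_inf.2 ⟨hT.le hx'.1, hx'.2⟩
  have hMle : M ≤ stabilizer G α := inf_le_right
  have hMn : stabilizer G α ≤ Subgroup.normalizer (M : Set G) := by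
    rw [Subgroup.le_normalizer_iff]
    intro h hh x hx
    have hx' := Subgroup.mem_inf.1 hx
    exact Subgroup.mem_inf.2 ⟨hN.conj_mem x hx'.1 h, H.mul_mem (H.mul_mem hh hx'.2) (H.inv_mem hh)⟩
  obtain ⟨g, hg⟩ := hne
  obtain ⟨h, hh, e⟩ := hconj g
  obtain ⟨m, hm, hmω⟩ := normal_trans_ext hH hep α (t • α) htα M hM hMle hMn h hh
  have hm' := Subgroup.mem_inf.1 hm
  have hmα : m • α = α := hm'.2
  have hhα : h • α = α := hh
  have h1 : (m * t * m⁻¹) • α = (h * t * h⁻¹) • α := by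
    rw [mul_smul, mul_smul, mul_smul, mul_smul, inv_smul_eq_iff.2 hmα.symm,
      inv_smul_eq_iff.2 hhα.symm, hmω]
  have ht₁ : m * t * m⁻¹ ∈ cj 1 T := by
    rw [cj_one]
    exact (Subgroup.le_normalizer_iff.1 hT.nrm) m hm'.1 t ht
  have h2 := K1 1 h (by rw [cj_one, ← e]; exact Ne.symm hg) _ ht₁ _ (conj_mem_cj ht) h1
  rw [mul_smul, mul_smul, inv_smul_eq_iff.2 hmα.symm] at h2
  apply htα
  have h3 : m • (t • α) = m • α := by rw [h2, hmα]
  exact smul_left_cancel m h3

/-- Projections in case (b). -/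
theorem proj_eq [IsPreprimitive G Ω] (hH : ∀ α : Ω, stabilizer G α ≠ ⊥)
    (hep : ∀ (α : Ω) (ω : Ω), IsPreprimitive (stabilizer G α) (orbit (stabilizer G α) ω))
    (α : Ω) (N : Subgroup G) (hN : N.Normal)
    (hmin : ∀ X : Subgroup G, X.Normal → X ≤ N → X = ⊥ ∨ X = N) (T : Subgroup G)
    (hT : IsMinSub N T) (hR : T ⊓ stabilizer G α = ⊥) (hMne : N ⊓ stabilizer G α ≠ ⊥)
    (h : G) (hh : h ∈ stabilizer G α) (hne : cj h T ≠ T) :
    ∀ u ∈ T, ∃ v ∈ cj h T, v * u ∈ N ⊓ stabilizer G α := by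
  classical
  have hT₂ := hT.conj hN h
  let M : Subgroup G := N ⊓ stabilizer G α
  have hcomm : ∀ u ∈ T, ∀ v ∈ cj h T, u * v = v * u := fun u hu v hv => hT.comm hT₂ (Ne.symm hne) hu hv
  let A : Subgroup T :=
    { carrier := {u | ∃ v ∈ cj h T, v * (u : G) ∈ M}
      one_mem' := ⟨1, Subgroup.one_mem _, by simp [M.one_mem]⟩
      mul_mem' := by
        rintro a b ⟨v, hv, hva⟩ ⟨w, hw, hwb⟩
        refine ⟨v * w, Subgroup.mul_mem _ hv hw, ?_⟩
        have e : v * w * ((a * b : T) : G) = (v * a) * (w * b) := by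
          have : (a : G) * w = w * a := hcomm a a.2 w hw
          calc v * w * ((a * b : T) : G) = v * (w * a) * b := by push_cast; group
            _ = v * (a * w) * b := by rw [this]
            _ = (v * a) * (w * b) := by group
        rw [e]
        exact M.mul_mem hva hwb
      inv_mem' := by
        rintro a ⟨v, hv, hva⟩
        refine ⟨v⁻¹, Subgroup.inv_mem _ hv, ?_⟩
        have e : v⁻¹ * ((a⁻¹ : T) : G) = (v * a)⁻¹ := by
          push_cast
          rw [mul_inv_rev]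
          exact (hcomm _ (T.inv_mem a.2) _ (Subgroup.inv_mem _ hv)).symm
        rw [e]
        exact M.inv_mem hva }
  have hAtop : A = ⊤ := by
    by_contra hAne
    obtain ⟨g, hg⟩ := H17.exists_not_mem_conj A hAne
    have hg1 : (g : G) • α ≠ α := by
      intro hfix
      have h1 : (g : G) ∈ T ⊓ stabilizer G α := Subgroup.mem_inf.2 ⟨g.2, hfix⟩
      rw [hR, Subgroup.mem_bot] at h1
      have h2 : g = 1 := Subtype.ext h1
      apply hg 1
      rw [h2]
      simp [A.one_mem]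
    have hMle : M ≤ stabilizer G α := inf_le_right
    have hMn : stabilizer G α ≤ Subgroup.normalizer (M : Set G) := by
      rw [Subgroup.le_normalizer_iff]
      intro k hk x hx
      have hx' := Subgroup.mem_inf.1 hx
      exact Subgroup.mem_inf.2 ⟨hN.conj_mem x hx'.1 k, Subgroup.mul_mem _ (Subgroup.mul_mem _ hk hx'.2) (Subgroup.inv_mem _ hk)⟩
    obtain ⟨m, hm, hmω⟩ := normal_trans_ext hH hep α ((g : G) • α) hg1 M hMne hMle hMn h hh
    have hm' := Subgroup.mem_inf.1 hm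
    have hmα : m • α = α := hm'.2
    have hhα : h • α = α := hh
    obtain ⟨u, hu, w, -, hwc, hmeq⟩ := minSub_factor hN hmin hT m hm'.1
    -- `t''`
    have e1 : m * g * m⁻¹ = u * g * u⁻¹ := by
      rw [hmeq]
      have := hwc g g.2
      calc u * w * (g : G) * (u * w)⁻¹ = u * (w * g) * w⁻¹ * u⁻¹ := by group
        _ = u * (g * w) * w⁻¹ * u⁻¹ := by rw [this]
        _ = u * g * u⁻¹ := by group
    have h1 : (m * g * m⁻¹) • α = (h * g * h⁻¹) • α := by
      rw [mul_smul, mul_smul, mul_smul, mul_smul, inv_smul_eq_iff.2 hmα.symm,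
        inv_smul_eq_iff.2 hhα.symm, hmω]
    apply hg (⟨u, hu⟩ : T)⁻¹
    refine ⟨(h * g * h⁻¹)⁻¹, Subgroup.inv_mem _ (conj_mem_cj g.2), ?_⟩
    have e2 : (((⟨u, hu⟩ : T)⁻¹)⁻¹ * g * (⟨u, hu⟩ : T)⁻¹ : T).1 = m * g * m⁻¹ := by
      rw [e1]
      push_cast
      simp
    rw [e2]
    refine Subgroup.mem_inf.2 ⟨?_, ?_⟩
    · exact N.mul_mem (N.inv_mem (hN.conj_mem g (hT.le g.2) h)) (hN.conj_mem g (hT.le g.2) m)
    · change _ • α = α
      rw [mul_smul, h1, inv_smul_smul]
  intro u hu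
  have : (⟨u, hu⟩ : T) ∈ A := by rw [hAtop]; trivial
  exact this

/-- Case (b). -/
theorem case_b [IsPreprimitive G Ω] (hH : ∀ α : Ω, stabilizer G α ≠ ⊥)
    (hep : ∀ (α : Ω) (ω : Ω), IsPreprimitive (stabilizer G α) (orbit (stabilizer G α) ω))
    (α : Ω) (N : Subgroup G) (hN : N.Normal) (hNne : N ≠ ⊥)
    (hmin : ∀ X : Subgroup G, X.Normal → X ≤ N → X = ⊥ ∨ X = N) (T : Subgroup G)
    (hT : IsMinSub N T) (hnab : ¬ ∀ a ∈ T, ∀ b ∈ T, a * b = b * a)
    (hne : ∃ g : G, cj g T ≠ T) (hR : T ⊓ stabilizer G α = ⊥)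
    (hMne : N ⊓ stabilizer G α ≠ ⊥) : False := by
  have htrN : IsPretransitive N Ω := normal_trans (X := Ω) N hNne
  have hconj := exists_stab_cj hN hT htrN α
  obtain ⟨g₀, hg₀⟩ := hne
  obtain ⟨h₀, hh₀, e₀⟩ := hconj g₀
  have hh₀ne : cj h₀ T ≠ T := e₀ ▸ hg₀
  have hT₂ := hT.conj hN h₀
  have hcommT : ∀ u ∈ T, ∀ v ∈ cj h₀ T, u * v = v * u :=
    fun u hu v hv => hT.comm hT₂ (Ne.symm hh₀ne) hu hv
  have hRh : ∀ h ∈ stabilizer G α, cj h T ⊓ stabilizer G α = ⊥ := by
    intro h hh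
    rw [eq_bot_iff]
    intro x hx
    have hx' := Subgroup.mem_inf.1 hx
    have h1 : h⁻¹ * x * h ∈ T ⊓ stabilizer G α :=
      Subgroup.mem_inf.2 ⟨mem_cj.1 hx'.1,
        Subgroup.mul_mem _ (Subgroup.mul_mem _ (Subgroup.inv_mem _ hh) hx'.2) hh⟩
    rw [hR, Subgroup.mem_bot] at h1
    rw [Subgroup.mem_bot]
    have h2 : x = h * (h⁻¹ * x * h) * h⁻¹ := by group
    rw [h2, h1]
    simp
  have hproj := proj_eq hH hep α N hN hmin T hT hR hMne
  -- only two conjugates
  have hall : ∀ g : G, cj g T = T ∨ cj g T = cj h₀ T := by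
    intro g
    by_contra hcon
    push Not at hcon
    obtain ⟨h₁, hh₁, e₁⟩ := hconj g
    have h₁ne : cj h₁ T ≠ T := e₁ ▸ hcon.1
    have h₁ne2 : cj h₁ T ≠ cj h₀ T := e₁ ▸ hcon.2
    have hT₃ := hT.conj hN h₁
    apply hnab
    intro u hu u' hu'
    obtain ⟨v, hv, hvu⟩ := hproj h₀ hh₀ hh₀ne u hu
    obtain ⟨w, hw, hwu⟩ := hproj h₁ hh₁ h₁ne u' hu'
    have c1 : v * u' = u' * v := (hcommT u' hu' v hv).symm
    have c2 : w * u = u * w := (hT.comm hT₃ (Ne.symm h₁ne) hu hw).symm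
    have c3 : u * w = w * u := c2.symm
    have c4 : v * w = w * v := hT₂.comm hT₃ (Ne.symm h₁ne2) hv hw
    have e1 : (v * u) * (w * u') = (v * w) * (u * u') := by
      calc (v * u) * (w * u') = v * (u * w) * u' := by group
        _ = v * (w * u) * u' := by rw [c3]
        _ = (v * w) * (u * u') := by group
    have e2 : (w * u') * (v * u) = (v * w) * (u' * u) := by
      have c5 : u' * v = v * u' := c1.symm
      calc (w * u') * (v * u) = w * (u' * v) * u := by group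
        _ = w * (v * u') * u := by rw [c5]
        _ = (w * v) * (u' * u) := by group
        _ = (v * w) * (u' * u) := by rw [c4]
    have hz : (u * u') * (u' * u)⁻¹ ∈ T := T.mul_mem (T.mul_mem hu hu') (T.inv_mem (T.mul_mem hu' hu))
    have hzc : (v * w) * ((u * u') * (u' * u)⁻¹) = ((u * u') * (u' * u)⁻¹) * (v * w) := by
      have h5 := (hcommT _ hz v hv).symm
      have h6 := (hT.comm hT₃ (Ne.symm h₁ne) hz hw).symm
      calc (v * w) * ((u * u') * (u' * u)⁻¹) = v * (w * ((u * u') * (u' * u)⁻¹)) := by group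
        _ = v * (((u * u') * (u' * u)⁻¹) * w) := by rw [h6]
        _ = (v * ((u * u') * (u' * u)⁻¹)) * w := by group
        _ = (((u * u') * (u' * u)⁻¹) * v) * w := by rw [h5]
        _ = ((u * u') * (u' * u)⁻¹) * (v * w) := by group
    have hM1 : ((v * u) * (w * u')) * ((w * u') * (v * u))⁻¹ ∈ N ⊓ stabilizer G α :=
      Subgroup.mul_mem _ (Subgroup.mul_mem _ hvu hwu) (Subgroup.inv_mem _ (Subgroup.mul_mem _ hwu hvu))
    have e3 : ((v * u) * (w * u')) * ((w * u') * (v * u))⁻¹ = (u * u') * (u' * u)⁻¹ := by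
      rw [e1, e2]
      calc (v * w) * (u * u') * ((v * w) * (u' * u))⁻¹
          = ((v * w) * ((u * u') * (u' * u)⁻¹)) * (v * w)⁻¹ := by group
        _ = (((u * u') * (u' * u)⁻¹) * (v * w)) * (v * w)⁻¹ := by rw [hzc]
        _ = (u * u') * (u' * u)⁻¹ := by group
    rw [e3] at hM1
    have h7 : (u * u') * (u' * u)⁻¹ ∈ T ⊓ stabilizer G α :=
      Subgroup.mem_inf.2 ⟨hz, (Subgroup.mem_inf.1 hM1).2⟩
    rw [hR, Subgroup.mem_bot] at h7
    exact mul_inv_eq_one.1 h7
  -- symmetric projection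
  have hproj2 : ∀ v ∈ cj h₀ T, ∃ u ∈ T, u * v ∈ N ⊓ stabilizer G α := by
    have h1 := proj_eq hH hep α N hN hmin (cj h₀ T) hT₂ (hRh h₀ hh₀) hMne h₀⁻¹
      (Subgroup.inv_mem _ hh₀) (by rw [cj_inv_cj]; exact Ne.symm hh₀ne)
    rw [cj_inv_cj] at h1
    exact h1
  have hNle : N ≤ T ⊔ cj h₀ T := by
    apply le_of_forall_cj_le hT.ne hT.le hN hmin
    intro g
    rcases hall g with h1 | h1
    · rw [h1]
      exact le_sup_left
    · rw [h1]
      exact le_sup_right
  -- transitivity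
  have hNtr : ∀ ω : Ω, ∃ n ∈ N, n • α = ω := by
    intro ω
    obtain ⟨n, hn⟩ := htrN.exists_smul_eq α ω
    exact ⟨n, n.2, hn⟩
  have hCtr : ∀ ω : Ω, ∃ c ∈ cj h₀ T, c • α = ω := by
    intro ω
    obtain ⟨n, hn, hnω⟩ := hNtr ω
    have hn' : n ∈ ((cj h₀ T ⊔ T : Subgroup G) : Set G) := by
      rw [sup_comm]
      exact hNle hn
    have hle : T ≤ Subgroup.normalizer ((cj h₀ T : Subgroup G) : Set G) := hT.le.trans hT₂.nrm
    rw [sup_comm, Subgroup.coe_mul_of_left_le_normalizer_right T (cj h₀ T) hle] at hn'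
    obtain ⟨u, hu, v', hv', rfl⟩ := Set.mem_mul.mp hn'
    obtain ⟨v, hv, hvu⟩ := hproj h₀ hh₀ hh₀ne u hu
    have hfix : (v * u) • α = α := (Subgroup.mem_inf.1 hvu).2
    have h1 : u • α = v⁻¹ • α := by
      rw [eq_inv_smul_iff, ← mul_smul]
      exact hfix
    refine ⟨v'* v⁻¹, Subgroup.mul_mem _ hv' (Subgroup.inv_mem _ hv), ?_⟩
    rw [← hnω, hcommT u hu v' hv', mul_smul, mul_smul, h1]
  have hTreg : ∀ t ∈ T, t • α = α → t = 1 := by
    intro t ht hfix
    have h1 : t ∈ T ⊓ stabilizer G α := Subgroup.mem_inf.2 ⟨ht, hfix⟩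
    rw [hR, Subgroup.mem_bot] at h1
    exact h1
  haveI hsimple : IsSimpleGroup T := minSub_simple hT (minSub_factor hN hmin hT)
  refine lemmaA α T (cj h₀ T) hTreg hCtr hcommT hnab ?_ ?_ ?_
  · intro h hh
    have hcjinj : ∀ A B : Subgroup G, cj h A = cj h B → A = B := by
      intro A B hAB
      have := congrArg (cj h⁻¹) hAB
      rwa [cj_inv_cj, cj_inv_cj] at this
    have h2 : cj h (cj h₀ T) = T ∨ cj h (cj h₀ T) = cj h₀ T := by
      rw [← cj_mul]
      exact hall _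
    rcases hall h with h1 | h1
    · left
      refine ⟨h1, h2.resolve_left ?_⟩
      intro h3
      exact hh₀ne (hcjinj _ _ (h3.trans h1.symm))
    · right
      refine ⟨h1, h2.resolve_right ?_⟩
      intro h3
      exact hh₀ne (hcjinj _ _ (h3.trans h1.symm))
  · intro β hβ K h1 h2
    exact (ext_coatom hH hep α β hβ).2 K h1 h2
  · intro β hβ
    exact (ext_coatom hH hep α β hβ).1

omit [Finite Ω] [MulAction G Ω] [FaithfulSMul G Ω] in
theorem gen_order_eq {N T' : Subgroup G} (hT' : IsMinSub N T') (p : ℕ) [hp : Fact p.Prime]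
    (hd : p ∣ Nat.card T') : Subgroup.closure {y : G | y ∈ T' ∧ orderOf y = p} = T' := by
  apply hT'.min
  · obtain ⟨x, hx⟩ := exists_prime_orderOf_dvd_card' p hd
    intro hb
    have h1 : (x : G) ∈ Subgroup.closure {y : G | y ∈ T' ∧ orderOf y = p} :=
      Subgroup.subset_closure ⟨x.2, by rw [Subgroup.orderOf_coe]; exact hx⟩
    rw [hb, Subgroup.mem_bot] at h1
    have h2 : x = 1 := Subtype.ext h1
    rw [h2, orderOf_one] at hx
    exact hp.out.ne_one hx.symm
  · exact (Subgroup.closure_le _).2 fun y hy => hy.1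
  · intro n hn
    apply mem_norm_closure
    rintro y ⟨hy1, hy2⟩
    apply Subgroup.subset_closure
    refine ⟨(Subgroup.le_normalizer_iff.1 hT'.nrm) n hn y hy1, ?_⟩
    have := (MulAut.conj n).orderOf_eq y
    simp only [MulAut.conj_apply] at this
    rw [this, hy2]

/-- Case (c). -/
theorem case_c [IsPreprimitive G Ω] (hH : ∀ α : Ω, stabilizer G α ≠ ⊥)
    (hep : ∀ (α : Ω) (ω : Ω), IsPreprimitive (stabilizer G α) (orbit (stabilizer G α) ω))
    (α : Ω) (N : Subgroup G) (hN : N.Normal) (hNne : N ≠ ⊥)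
    (hmin : ∀ X : Subgroup G, X.Normal → X ≤ N → X = ⊥ ∨ X = N) (T : Subgroup G)
    (hT : IsMinSub N T) (hnab : ¬ ∀ a ∈ T, ∀ b ∈ T, a * b = b * a)
    (hne : ∃ g : G, cj g T ≠ T) (hM : N ⊓ stabilizer G α = ⊥) : False := by
  classical
  have htrN : IsPretransitive N Ω := normal_trans (X := Ω) N hNne
  let H := stabilizer G α
  have hNtr : ∀ ω : Ω, ∃ n ∈ N, n • α = ω := by
    intro ω
    obtain ⟨n, hn⟩ := htrN.exists_smul_eq α ω
    exact ⟨n, n.2, hn⟩
  have hreg : ∀ n ∈ N, n • α = α → n = 1 := by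
    intro n hn hfix
    have h1 : n ∈ N ⊓ stabilizer G α := Subgroup.mem_inf.2 ⟨hn, hfix⟩
    rw [hM, Subgroup.mem_bot] at h1
    exact h1
  have hCH : ∀ x ∈ N, ∀ h ∈ H, (h • (x • α) = x • α ↔ h * x = x * h) := by
    intro x hx h hh
    have hh' : h • α = α := hh
    constructor
    · intro h1
      have h2 : (h * x * h⁻¹) • α = x • α := by
        rw [mul_smul, mul_smul, inv_smul_eq_iff.2 hh'.symm, h1]
      have h3 := eq_of_smul_base (N := N) (α := α) hreg (hN.conj_mem x hx h) hx h2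
      calc h * x = (h * x * h⁻¹) * h := by group
        _ = x * h := by rw [h3]
    · intro h1
      rw [← mul_smul, h1, mul_smul, hh']
  have hpowEl : ∀ x ∈ N, ∀ j : ℕ, x ^ j ≠ 1 → ∀ h ∈ H, h * x ^ j = x ^ j * h → h * x = x * h := by
    intro x hx j hj h hh hc
    have hxj : x ^ j ∈ N := N.pow_mem hx j
    have hβ' : x ^ j • α ≠ α := fun h' => hj (hreg _ hxj h')
    have hβ : x • α ≠ α := by
      intro h'
      apply hj
      rw [hreg x hx h', one_pow]
    have hle : stabilizer G α ⊓ stabilizer G (x • α) ≤ stabilizer G α ⊓ stabilizer G (x ^ j • α) := by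
      intro u hu
      have hu' := Subgroup.mem_inf.1 hu
      have h1 := (hCH x hx u hu'.1).1 hu'.2
      refine Subgroup.mem_inf.2 ⟨hu'.1, (hCH _ hxj u hu'.1).2 ?_⟩
      exact ((Commute.pow_right h1 j)).eq
    obtain ⟨hp1, hp2⟩ := ext_coatom hH hep α _ hβ
    obtain ⟨hp3, -⟩ := ext_coatom hH hep α _ hβ'
    rcases hp2 _ hle inf_le_left with h1 | h1
    · have h2 : h ∈ stabilizer G α ⊓ stabilizer G (x ^ j • α) :=
        Subgroup.mem_inf.2 ⟨hh, (hCH _ hxj h hh).2 hc⟩
      rw [h1] at h2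
      exact (hCH x hx h hh).1 (Subgroup.mem_inf.1 h2).2
    · exfalso
      apply hp3
      rw [← h1]
      exact inf_le_right
  have hccp : ∀ a ∈ N, ∀ b ∈ N, a * b = b * a → a ≠ 1 → b ≠ 1 →
      Nat.Coprime (orderOf a) (orderOf b) → ∀ c ∈ H, c * a = a * c → c * b = b * c := by
    intro a ha b hb hab ha1 hb1 hc c hcH hca
    have hab' : Commute a b := hab
    have h1 : (a * b) ^ orderOf b = a ^ orderOf b := by
      rw [hab'.mul_pow, pow_orderOf_eq_one, mul_one]
    have h2 : (a * b) ^ orderOf a = b ^ orderOf a := by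
      rw [hab'.mul_pow, pow_orderOf_eq_one, one_mul]
    have h3 : a ^ orderOf b ≠ 1 := by
      intro h'
      have h5 := orderOf_dvd_of_pow_eq_one h'
      have h6 : orderOf a = 1 := Nat.eq_one_of_dvd_coprimes hc dvd_rfl h5
      exact ha1 (orderOf_eq_one_iff.1 h6)
    have h4 : b ^ orderOf a ≠ 1 := by
      intro h'
      have h5 := orderOf_dvd_of_pow_eq_one h'
      have h6 : orderOf b = 1 := Nat.eq_one_of_dvd_coprimes hc h5 dvd_rfl
      exact hb1 (orderOf_eq_one_iff.1 h6)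
    have hca' : Commute c a := hca
    have e1 : c * (a * b) = (a * b) * c :=
      hpowEl (a * b) (N.mul_mem ha hb) (orderOf b) (by rw [h1]; exact h3) c hcH (by
        rw [h1]
        exact (hca'.pow_right _).eq)
    have e1' : Commute c (a * b) := e1
    exact hpowEl b hb (orderOf a) h4 c hcH (by
      rw [← h2]
      exact (e1'.pow_right _).eq)
  -- two primes
  have hTcard : Nat.card T ≠ 1 := fun h => hT.ne (Subgroup.eq_bot_of_card_eq _ h)
  obtain ⟨r, hr, hrd⟩ := Nat.exists_prime_and_dvd hTcard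
  have hrF : Fact r.Prime := ⟨hr⟩
  obtain ⟨s, hs, hsd, hsr⟩ : ∃ s : ℕ, s.Prime ∧ s ∣ Nat.card T ∧ s ≠ r := by
    by_contra hcon
    push Not at hcon
    apply not_isPGroup_minSub hT hnab (p := r)
    apply IsPGroup.of_card (n := (Nat.card T).primeFactorsList.length)
    exact Nat.eq_prime_pow_of_unique_prime_dvd Nat.card_pos.ne' fun {q} hq hqd => hcon q hq hqd
  have hsF : Fact s.Prime := ⟨hs⟩
  have hcop : Nat.Coprime r s := (Nat.coprime_primes hr hs).2 (Ne.symm hsr)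
  obtain ⟨g₀, hg₀⟩ := hne
  have hT₂ := hT.conj hN g₀
  have hcard2 : ∀ g : G, Nat.card (cj g T) = Nat.card T := fun g => card_cj g T
  obtain ⟨x₀', hx₀'⟩ := exists_prime_orderOf_dvd_card' r hrd
  have hx₀T : (x₀' : G) ∈ T := x₀'.2
  have hx₀ord : orderOf (x₀' : G) = r := by rw [Subgroup.orderOf_coe]; exact hx₀'
  set x₀ : G := (x₀' : G) with hx₀def
  obtain ⟨z₀', hz₀'⟩ := exists_prime_orderOf_dvd_card' (G := cj g₀ T) s (by rw [hcard2]; exact hsd)
  have hz₀T : (z₀' : G) ∈ cj g₀ T := z₀'.2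
  have hz₀ord : orderOf (z₀' : G) = s := by rw [Subgroup.orderOf_coe]; exact hz₀'
  set z₀ : G := (z₀' : G) with hz₀def
  have hx₀1 : x₀ ≠ 1 := by
    intro h
    rw [h, orderOf_one] at hx₀ord
    exact hr.ne_one hx₀ord.symm
  have hz₀1 : z₀ ≠ 1 := by
    intro h
    rw [h, orderOf_one] at hz₀ord
    exact hs.ne_one hz₀ord.symm
  have hx₀N : x₀ ∈ N := hT.le hx₀T
  have hz₀N : z₀ ∈ N := hT₂.le hz₀T
  have hord1 : ∀ y : G, orderOf y = r → y ≠ 1 := by
    intro y hy h
    rw [h, orderOf_one] at hy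
    exact hr.ne_one hy.symm
  have hord2 : ∀ y : G, orderOf y = s → y ≠ 1 := by
    intro y hy h
    rw [h, orderOf_one] at hy
    exact hs.ne_one hy.symm
  have hc1 : ∀ c ∈ H, c * x₀ = x₀ * c → c = 1 := by
    intro c hcH hcx
    have hcz : c * z₀ = z₀ * c :=
      hccp x₀ hx₀N z₀ hz₀N (hT.comm hT₂ (Ne.symm hg₀) hx₀T hz₀T) hx₀1 hz₀1
        (by rw [hx₀ord, hz₀ord]; exact hcop) c hcH hcx
    have hall : ∀ g : G, cj g T ≤ Subgroup.centralizer ({c} : Set G) := by
      intro g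
      by_cases e : cj g T = T
      · rw [e, ← gen_order_eq hT r hrd, Subgroup.closure_le]
        rintro y ⟨hy1, hy2⟩
        rw [SetLike.mem_coe, Subgroup.mem_centralizer_singleton_iff]
        have := hccp z₀ hz₀N y (hT.le hy1) (hT₂.comm hT hg₀ hz₀T hy1) hz₀1 (hord1 y hy2)
          (by rw [hz₀ord, hy2]; exact hcop.symm) c hcH hcz
        exact this.symm
      · have hTg := hT.conj hN g
        rw [← gen_order_eq hTg s (by rw [hcard2]; exact hsd), Subgroup.closure_le]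
        rintro y ⟨hy1, hy2⟩
        rw [SetLike.mem_coe, Subgroup.mem_centralizer_singleton_iff]
        have := hccp x₀ hx₀N y (hTg.le hy1) (hT.comm hTg (Ne.symm e) hx₀T hy1) hx₀1 (hord2 y hy2)
          (by rw [hx₀ord, hy2]; exact hcop) c hcH hcx
        exact this.symm
    have hNc := le_of_forall_cj_le hT.ne hT.le hN hmin hall
    apply eq_one_of_forall_fix (Ω := Ω)
    intro y
    obtain ⟨n, hn, rfl⟩ := hNtr y
    have h1 : n * c = c * n := Subgroup.mem_centralizer_singleton_iff.1 (hNc hn)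
    have hcα : c • α = α := hcH
    rw [← mul_smul, ← h1, mul_smul, hcα]
  have hx₀β : x₀ • α ≠ α := fun h => hx₀1 (hreg x₀ hx₀N h)
  have hbot : stabilizer G α ⊓ stabilizer G (x₀ • α) = ⊥ := by
    rw [eq_bot_iff]
    intro c hc
    have hc' := Subgroup.mem_inf.1 hc
    rw [Subgroup.mem_bot]
    exact hc1 c hc'.1 ((hCH x₀ hx₀N c hc'.1).1 hc'.2)
  have hsub : ∀ K : Subgroup G, K ≤ H → K = ⊥ ∨ K = H := by
    intro K hK
    have := (ext_coatom hH hep α _ hx₀β).2 K (by rw [hbot]; exact bot_le) hK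
    rwa [hbot] at this
  have hfree : ∀ y ∈ N, y ≠ 1 → ∀ c ∈ H, c * y = y * c → c = 1 := by
    intro y hy hy1 c hcH hcy
    have hβ : y • α ≠ α := fun h => hy1 (hreg y hy h)
    obtain ⟨h1, -⟩ := ext_coatom hH hep α _ hβ
    rcases hsub (stabilizer G α ⊓ stabilizer G (y • α)) inf_le_left with h2 | h2
    · have h3 : c ∈ stabilizer G α ⊓ stabilizer G (y • α) :=
        Subgroup.mem_inf.2 ⟨hcH, (hCH y hy c hcH).2 hcy⟩
      rw [h2, Subgroup.mem_bot] at h3
      exact h3
    · exfalso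
      apply h1
      have : H ≤ stabilizer G α ⊓ stabilizer G (y • α) := h2.ge
      exact this.trans inf_le_right
  -- `H` has prime order
  obtain ⟨x, hxH, hx1⟩ := (Subgroup.bot_or_exists_ne_one _).resolve_left (hH α)
  have hxord : orderOf x ≠ 1 := mt orderOf_eq_one_iff.1 hx1
  obtain ⟨f, hf, hfd⟩ := Nat.exists_prime_and_dvd hxord
  have hfF : Fact f.Prime := ⟨hf⟩
  have hy : orderOf (x ^ (orderOf x / f)) = f := orderOf_pow_orderOf_div (orderOf_pos x).ne' hfd
  set y := x ^ (orderOf x / f) with hydef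
  have hzle : Subgroup.zpowers y ≤ H :=
    (Subgroup.zpowers_le).2 (H.pow_mem hxH _)
  have hzH : Subgroup.zpowers y = H := by
    rcases hsub _ hzle with h1 | h1
    · exfalso
      rw [Subgroup.zpowers_eq_bot] at h1
      rw [h1, orderOf_one] at hy
      exact hf.ne_one hy.symm
    · exact h1
  have hHcard : Nat.card H = f := by
    rw [← hzH, Nat.card_zpowers, hy]
  have hHp : IsPGroup f H := IsPGroup.of_card (n := 1) (by rw [pow_one]; exact hHcard)
  -- the action on `N`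
  haveI hNinst : N.Normal := hN
  have hfN : ¬ f ∣ Nat.card N := by
    intro hd
    letI act : MulAction H N := MulAction.compHom N ((MulAut.conjNormal (H := N)).comp H.subtype)
    have hfix1 : (1 : N) ∈ fixedPoints H N := by
      intro c
      exact map_one (MulAut.conjNormal (H := N) (c : G))
    obtain ⟨b, hb, hb1⟩ := hHp.exists_fixed_point_of_prime_dvd_card_of_fixed_point N hd hfix1
    have hbne : (b : G) ≠ 1 := fun h => hb1 (Subtype.ext h.symm)
    have hall : ∀ c ∈ H, c = 1 := by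
      intro c hc
      apply hfree b b.2 hbne c hc
      have h1 : (⟨c, hc⟩ : H) • b = b := hb ⟨c, hc⟩
      have h2 : c * (b : G) * c⁻¹ = b := congrArg Subtype.val h1
      calc c * (b : G) = (c * (b : G) * c⁻¹) * c := by group
        _ = b * c := by rw [h2]
    apply hH α
    rw [eq_bot_iff]
    intro c hc
    rw [Subgroup.mem_bot]
    exact hall c hc
  -- a fixed Sylow subgroup
  obtain ⟨S0⟩ : Nonempty (Sylow s N) := inferInstance
  letI act2 : MulAction H (Sylow s N) :=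
    MulAction.compHom (Sylow s N) ((MulAut.conjNormal (H := N)).comp H.subtype)
  have hnd : ¬ f ∣ Nat.card (Sylow s N) := fun hd =>
    hfN (hd.trans ((Sylow.card_dvd_index S0).trans (Subgroup.index_dvd_card _)))
  obtain ⟨S, hSf⟩ := hHp.nonempty_fixed_point_of_prime_not_dvd_card (Sylow s N) hnd
  have hfix : ∀ h ∈ H, ∀ m : N, m ∈ (S : Subgroup N) →
      (MulAut.conjNormal (H := N) h m) ∈ (S : Subgroup N) := by
    intro h hh m hm
    have h1 : (⟨h, hh⟩ : H) • S = S := hSf ⟨h, hh⟩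
    have h3 : MulAut.conjNormal (H := N) h • (S : Subgroup N) = (S : Subgroup N) :=
      congrArg (fun Q : Sylow s N => (Q : Subgroup N)) h1
    have h4 := Subgroup.smul_mem_pointwise_smul m (MulAut.conjNormal (H := N) h) (S : Subgroup N) hm
    rw [h3] at h4
    exact h4
  let K : Subgroup G := (S : Subgroup N).map N.subtype
  have hKN : K ≤ N := Subgroup.map_subtype_le _
  have hHK : H ≤ Subgroup.normalizer (K : Set G) := by
    rw [Subgroup.le_normalizer_iff]
    rintro h hh _ ⟨m, hm, rfl⟩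
    refine ⟨MulAut.conjNormal (H := N) h m, hfix h hh m hm, ?_⟩
    simp [MulAut.conjNormal_apply]
  obtain ⟨ω₀, hω₀⟩ : ∃ ω : Ω, ω ≠ α := ⟨x₀ • α, hx₀β⟩
  have hnt : Nontrivial Ω := ⟨⟨ω₀, α, hω₀⟩⟩
  have hcoat : IsCoatom H := IsPreprimitive.isCoatom_stabilizer_of_isPreprimitive G α
  have hKp : IsPGroup s K := S.isPGroup'.map _
  rcases (hcoat.le_iff).1 (le_sup_left : H ≤ H ⊔ K) with hL | hL
  · have hNK : N ≤ K := by
      intro m hm
      have hm' : m ∈ ((H ⊔ K : Subgroup G) : Set G) := by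
        rw [hL]
        trivial
      rw [Subgroup.coe_mul_of_left_le_normalizer_right H K hHK] at hm'
      obtain ⟨h, hh, k, hk, rfl⟩ := Set.mem_mul.mp hm'
      have hhN : h ∈ N := by
        have e : h = (h * k) * k⁻¹ := by group
        rw [e]
        exact N.mul_mem hm (N.inv_mem (hKN hk))
      have h1 : h ∈ N ⊓ stabilizer G α := Subgroup.mem_inf.2 ⟨hhN, hh⟩
      rw [hM, Subgroup.mem_bot] at h1
      rw [h1, one_mul]
      exact hk
    exact not_isPGroup_minSub hT hnab (p := s) (hKp.to_le (hT.le.trans hNK))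
  · have hKH : K ≤ H := by
      rw [← hL]
      exact le_sup_right
    have hKb : K = ⊥ := by
      rw [eq_bot_iff, ← hM]
      exact le_inf hKN hKH
    have hsN : s ∣ Nat.card N := hsd.trans (Subgroup.card_dvd_of_le hT.le)
    have hSb : (S : Subgroup N) = ⊥ := by
      rw [Subgroup.map_eq_bot_iff_of_injective _ (Subgroup.subtype_injective _)] at hKb
      exact hKb
    have h2 := S.not_dvd_index
    rw [hSb, Subgroup.index_bot] at h2
    exact h2 hsN

end Action

end Cfsg.Agent.H16
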